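import Cfsg.Agent.Omega.FOne.ThmR.Main
import Cfsg.Agent.Omega.FOne.ThmA.RedDef

/-!
# `ThA` (helper396's literal, RedDef.lean) from `ThmR.Dat.main`
-/

set_option autoImplicit false
set_option linter.unusedSectionVars false

namespace Cfsg.Agent.Omega.FOne.ThmR

open Subgroup Cfsg Cfsg.Agent.ZN
open Cfsg.Agent.Omega.FOne.Tvw (Base z2 addself ap_inv inv_ap)
open Cfsg.Agent.Omega.FOne.NOv (cms MAtom MEx)
open Cfsg.Agent.Omega.FOne.ThmA
open Cfsg.Agent.ClassTwoFusion.Quad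

universe u

/-- `{0, y}` -/
def Ry {W : Type*} [AddCommGroup W] [Module (ZMod 2) W] (y : W) : AddSubgroup W where
  carrier := {w | w = 0 ∨ w = y}
  zero_mem' := Or.inl rfl
  add_mem' := by
    rintro a b (rfl | rfl) (rfl | rfl)
    · left; rw [add_zero]
    · right; rw [zero_add]
    · right; rw [add_zero]
    · left; exact addself _
  neg_mem' := by
    rintro a (rfl | rfl)
    · left; rw [neg_zero]
    · right; exact neg_eq_of_add_eq_zero_left (addself _)

section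

variable {W : Type*} [AddCommGroup W] [Module (ZMod 2) W] {X : Subgroup (W ≃ₗ[ZMod 2] W)} {y : W}

theorem mem_Ry {w : W} : w ∈ Ry y ↔ w = 0 ∨ w = y := Iff.rfl

theorem add_mem_Ry {a b : W} : a + b ∈ Ry y ↔ a = b ∨ a = b + y := by
  rw [mem_Ry]
  constructor
  · rintro (h | h)
    · exact Or.inl (eq_of_add_eq_zero addself h)
    · right
      calc a = a + b + b := by rw [add_assoc, addself, add_zero]
        _ = b + y := by rw [h, add_comm]
  · rintro (rfl | rfl)
    · exact Or.inl (addself _)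
    · right
      calc b + y + b = (b + b) + y := by abel
        _ = y := by rw [addself, zero_add]

theorem n_def (x : X) (w : W) : n x w = (x : W ≃ₗ[ZMod 2] W) w + w := rfl

theorem n_mem_Ry {x : X} {w : W} :
    n x w ∈ Ry y ↔ (x : W ≃ₗ[ZMod 2] W) w = w ∨ (x : W ≃ₗ[ZMod 2] W) w = w + y := add_mem_Ry

/-- `cm` and `cms` -/
theorem mem_cm_iff {E : Subgroup X} {B : Subgroup (W ≃ₗ[ZMod 2] W)}
    (hEB : ∀ g : W ≃ₗ[ZMod 2] W, g ∈ B ↔ ∃ e ∈ E, (e : W ≃ₗ[ZMod 2] W) = g) {w : W} :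
    w ∈ cm (Ry y) E ↔ w ∈ cms y B := by
  constructor
  · intro hw g hg
    obtain ⟨e, he, rfl⟩ := (hEB g).1 hg
    exact n_mem_Ry.1 (hw e he)
  · intro hw e he
    exact n_mem_Ry.2 (hw _ ((hEB _).2 ⟨e, he, rfl⟩))

theorem card_cm [Finite W] {E : Subgroup X} {B : Subgroup (W ≃ₗ[ZMod 2] W)}
    (hEB : ∀ g : W ≃ₗ[ZMod 2] W, g ∈ B ↔ ∃ e ∈ E, (e : W ≃ₗ[ZMod 2] W) = g) :
    Nat.card (cms y B) * (cm (Ry y) E).index = Nat.card W := by
  have h1 : Nat.card (cms y B) = Nat.card (cm (Ry y) E) :=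
    Nat.card_congr (Equiv.subtypeEquivRight fun w => (mem_cm_iff hEB).symm)
  rw [h1]
  exact AddSubgroup.card_mul_index _

end

/-- **THEOREM A** -/
theorem thA (hML : ML.Final.MLK.{u, u}) : ThA.{u} := by
  intro W _ _ _ X R y θ T B h hT hR g h0 hcov hex
  have hfin : Finite (W ≃ₗ[ZMod 2] W) := DFunLike.finite _
  have hBT : B ≤ T := g.BO.trans h.o2_stb_le
  have hBR : B ≤ R := hBT.trans hT
  have hBX : B ≤ X := hBR.trans hR
  set O := o2 (Fq X y {θ}) with hO
  have hOX : O ≤ X := (o2_le _).trans Fq_le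
  have hsub : ∀ {E : Subgroup (W ≃ₗ[ZMod 2] W)}, E ≤ X →
      ∀ a : W ≃ₗ[ZMod 2] W, a ∈ E ↔ ∃ e ∈ E.subgroupOf X, (e : W ≃ₗ[ZMod 2] W) = a := by
    intro E hE a
    constructor
    · intro ha; exact ⟨⟨a, hE ha⟩, ha, rfl⟩
    · rintro ⟨e, he, rfl⟩; exact he
  have hmap : ∀ (E : Subgroup X) (a : W ≃ₗ[ZMod 2] W),
      a ∈ E.map X.subtype ↔ ∃ e ∈ E, (e : W ≃ₗ[ZMod 2] W) = a := fun E a => Iff.rfl
  have hcmap : ∀ E : Subgroup X, Nat.card (E.map X.subtype) = Nat.card E := fun E =>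
    (Nat.card_congr (E.equivMapOfInjective X.subtype X.subtype_injective).toEquiv).symm
  have hyX : ∀ x ∈ X, x y = y := fun x hx => h.fixy hx
  have hD : Dat (R.subgroupOf X) (T.subgroupOf X) (O.subgroupOf X) (B.subgroupOf X) (Ry y)
      (WR R y θ).toAddSubgroup θ := by
    refine ⟨addself, ?_, ?_, ?_, ?_, ?_, ?_, ?_, ?_, ?_, ?_, ?_, ?_, ?_, ?_, ?_, ?_, ?_, ?_, ?_⟩
    · -- fixR
      rintro x r (rfl | rfl)
      · exact smul_zero x
      · exact hyX x x.2
    · -- faith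
      intro x hx
      exact Subtype.ext (h.base.faith x x.2 fun w => n_mem_Ry.1 (hx w))
    · exact fun t ht => hT ht
    · exact h.two.of_equiv (subgroupOfEquivOfLe (hT.trans hR)).symm
    · rw [relIndex_subgroupOf hR]; exact h.sylR hT hR
    · exact fun b hb => g.BO hb
    · exact fun b hb => hBR hb
    · exact fun b hb => Subtype.ext (g.sq _ hb)
    · -- quad
      intro b hb c hc w
      exact n_mem_Ry.2 (g.quadM _ hb _ hc w)
    · -- no
      intro E hE hE2
      have hEO : E.map X.subtype ≤ O := by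
        rintro _ ⟨e, he, rfl⟩; exact hE he
      have h1 := h.no hML (B := E.map X.subtype) hEO (by
        rintro _ ⟨e, he, rfl⟩; exact congrArg Subtype.val (hE2 e he))
      rw [hcmap, ← card_cm (hmap E), mul_comm] at h1
      exact Nat.le_of_mul_le_mul_left h1 Nat.card_pos
    · -- ex
      have h1 : Nat.card B * Nat.card (cms y B) = Nat.card W := g.atom.ex
      rw [← card_cm (hsub hBX), mul_comm] at h1
      rw [← Nat.eq_of_mul_eq_mul_left Nat.card_pos h1]
      exact Nat.card_congr (subgroupOfEquivOfLe hBX).toEquiv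
    · -- min
      intro E hE hE1 hEc
      have hEB : E.map X.subtype ≤ B := by
        rintro _ ⟨e, he, rfl⟩; exact hE he
      have h1 : E.map X.subtype ≠ ⊥ := fun h2 => hE1 ((map_eq_bot_iff_of_injective E X.subtype_injective).1 h2)
      have h2 : MEx y (E.map X.subtype) := by
        have h3 := card_cm (y := y) (hmap E)
        rw [← hEc, mul_comm, ← hcmap E] at h3
        exact h3
      have h3 := g.atom.min _ hEB h1 h2
      ext x
      constructor
      · intro hx; exact hE hx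
      · intro hx
        have h4 : (x : W ≃ₗ[ZMod 2] W) ∈ E.map X.subtype := by rw [h3]; exact hx
        obtain ⟨e, he, h5⟩ := h4
        rwa [← Subtype.ext h5]
    · -- RV
      rintro r (rfl | rfl)
      · exact (WR R y θ).toAddSubgroup.zero_mem
      · exact y_mem_WR
    · exact fun x hx v hv => WR_inv (fun r hr => hyX r (hR hr)) hx hv
    · -- gen
      intro U hRU hU v hv
      have h1 : WR R y θ ≤ AddSubgroup.toZModSubmodule 2 U :=
        WR_le (hRU (Or.inr rfl)) fun r hr => hU ⟨r, hR hr⟩ hr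
      exact h1 hv
    · exact θ_mem_WR
    · exact fun t ht => n_mem_Ry.2 (h.Tθ _ ht)
    · -- nO
      intro x hx o ho
      have h1 : (x : W ≃ₗ[ZMod 2] W) ∈ Fq X y {θ} := ⟨x.2, hyX x x.2, by rintro v rfl; exact n_mem_Ry.1 hx⟩
      exact (mem_normalizer_iff.mp (le_normalizer_o2 (Fq X y {θ}) h1) (o : W ≃ₗ[ZMod 2] W)).mp ho
    · -- cover
      intro w
      have h1 : w ∈ WR R y θ ⊔ cms y B := hcov ▸ Submodule.mem_top
      obtain ⟨v, hv, m, hm, rfl⟩ := Submodule.mem_sup.1 h1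
      refine ⟨v, hv, ?_⟩
      have h2 : v + m + v = m := by
        calc v + m + v = m + (v + v) := by abel
          _ = m := by rw [addself, add_zero]
      rw [h2]
      exact (mem_cm_iff (hsub hBX)).2 hm
  have h4 : 4 ≤ Nat.card (B.subgroupOf X) := by
    rw [Nat.card_congr (subgroupOfEquivOfLe hBX).toEquiv]; exact g.four
  have key := hD.main h4
  intro k hk l hl v hv
  have hlX : l ∈ X := (L1_le hBR |>.trans hR) hl
  have h5 : (⟨l, hlX⟩ : X) ∈ Subgroup.closure
      {z : X | ∃ x ∈ R.subgroupOf X, ∃ b ∈ B.subgroupOf X, z = x * b * x⁻¹} := by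
    have h6 : L1 B R ≤ (Subgroup.closure
        {z : X | ∃ x ∈ R.subgroupOf X, ∃ b ∈ B.subgroupOf X, z = x * b * x⁻¹}).map X.subtype := by
      rw [L1, closure_le]
      rintro _ ⟨r, hr, b, hb, rfl⟩
      refine ⟨⟨r, hR hr⟩ * ⟨b, hBX hb⟩ * ⟨r, hR hr⟩⁻¹, subset_closure ⟨⟨r, hR hr⟩, hr, ⟨b, hBX hb⟩, hb, rfl⟩, rfl⟩
    obtain ⟨e, he, h7⟩ := h6 hl
    have h8 : (⟨l, hlX⟩ : X) = e := Subtype.ext h7.symm
    rw [h8]; exact he
  have h9 := key _ h5 ⟨k, hR hk.1⟩ hk.1 (fun v hv => n_mem_Ry.2 (hk.2.2 v hv)) v hv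
  exact eq_of_add_eq_zero addself h9

end Cfsg.Agent.Omega.FOne.ThmR
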