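import Cfsg.Agent.Omega.FOne.ThmR.Form

/-!
# THEOREM A, step (5) and the theorem

`Dat.main` : if `|B| ≥ 4`, every `k ∈ X` which is trivial on `V / R` centralises `[V, ⟨B^X⟩]`.
-/

set_option autoImplicit false
set_option linter.unusedSectionVars false

namespace Cfsg.Agent.Omega.FOne.ThmR

open Subgroup

variable {H W : Type*} [Group H] [AddCommGroup W] [DistribMulAction H W] {X T O B L : Subgroup H}
  {R V : AddSubgroup W} {lam : W}

namespace Mn

variable {h : Dat X T O B R V lam} {C : Subgroup H} {c₁ : H}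

/-- two vectors of `cm B` which are independent modulo `cm C` -/
theorem exists_two [Finite H] [Finite W] (m : Mn h L C c₁) (hL : LL X T B L) (h4 : 4 ≤ Nat.card B) :
    ∃ x ∈ cm R B, ∃ y ∈ cm R B, x ∉ cm R C ∧ y ∉ cm R C ∧ x + y ∉ cm R C := by
  have hi := m.index_cm hL
  have hred : ∀ w, ∃ x ∈ cm R B, ∃ v ∈ cm R C, w = x + v := by
    intro w
    obtain ⟨v, hv, hw⟩ := h.cover w
    refine ⟨w + v, hw, v, m.V_le_cm hv, ?_⟩
    rw [add_assoc, h.two, add_zero]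
  have hnt : ∃ x, x ∉ cm R C := by
    by_contra hcon
    push Not at hcon
    have h1 : cm R C = ⊤ := top_unique fun x _ => hcon x
    rw [h1, AddSubgroup.index_top] at hi
    omega
  obtain ⟨x₀, hx₀⟩ := hnt
  have hnt2 : ∃ y, y ∉ cm R C ∧ y + x₀ ∉ cm R C := by
    by_contra hcon
    push Not at hcon
    have h1 : (cm R C).index = 2 := by
      rw [AddSubgroup.index_eq_two_iff]
      refine ⟨x₀, fun b => ?_⟩
      by_cases hb : b ∈ cm R C
      · refine Or.inr ⟨hb, fun h2 => hx₀ ?_⟩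
        have h3 := (cm R C).add_mem hb h2
        rwa [← add_assoc, h.two, zero_add] at h3
      · exact Or.inl ⟨hcon b hb, hb⟩
    omega
  obtain ⟨y₀, hy₀, hxy₀⟩ := hnt2
  obtain ⟨x, hx, v, hv, rfl⟩ := hred x₀
  obtain ⟨y, hy, u, hu, rfl⟩ := hred y₀
  refine ⟨x, hx, y, hy, fun h1 => hx₀ ((cm R C).add_mem h1 hv), fun h1 => hy₀ ((cm R C).add_mem h1 hu),
    fun h1 => hxy₀ ?_⟩
  have h2 := (cm R C).add_mem h1 ((cm R C).add_mem hv hu)
  have h3 : y + u + (x + v) = x + y + (v + u) := by abel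
  rw [h3]; exact h2

/-- two elements of `C` which are independent modulo `C_C(B)` -/
theorem exists_two' [Finite H] [Finite W] (m : Mn h L C c₁) (hL : LL X T B L) (h4 : 4 ≤ Nat.card B) :
    ∃ c : C, ∃ d : C, c ∉ CC B C ∧ d ∉ CC B C ∧ d * c ∉ CC B C := by
  have hi := m.card_le_CC hL
  have hnt : ∃ x, x ∉ CC B C := by
    by_contra hcon
    push Not at hcon
    have h1 : CC B C = ⊤ := top_unique fun x _ => hcon x
    rw [h1, index_top] at hi
    omega
  obtain ⟨x₀, hx₀⟩ := hnt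
  have hnt2 : ∃ y, y ∉ CC B C ∧ y * x₀ ∉ CC B C := by
    by_contra hcon
    push Not at hcon
    have h1 : (CC B C).index = 2 := by
      rw [index_eq_two_iff]
      refine ⟨x₀, fun b => ?_⟩
      by_cases hb : b ∈ CC B C
      · exact Or.inr ⟨hb, fun h2 => hx₀ ((Subgroup.mul_mem_cancel_left _ hb).1 h2)⟩
      · exact Or.inl ⟨hcon b hb, hb⟩
    omega
  obtain ⟨y₀, hy₀, hxy₀⟩ := hnt2
  exact ⟨x₀, y₀, hx₀, hy₀, hxy₀⟩

/-- Step (5). -/
theorem false [Finite H] [Finite W] (m : Mn h L C c₁) (hL : LL X T B L) (h4 : 4 ≤ Nat.card B) : False := by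
  obtain ⟨x, hxB, y, hyB, hx, hy, hxy⟩ := m.exists_two hL h4
  have hZC := m.Z_le_C hL m.c1
  -- for `c ∈ C` moved by `B` and `e = z(c,b)`: the element `e'`
  have hstep : ∀ c ∈ C, ∀ b ∈ B, ∃ e' ∈ h.Z m.c1Y, (∀ d ∈ C, n d (n e' y) = n d (n (z c b) x)) ∧
      n e' y + n (z c b) x = n c (n e' (x + y)) := by
    intro c hc b hb
    obtain ⟨c', hc', hr⟩ := m.same hL x hy hc
    have e1 : n b (n c' y) = n b (n c x) := by
      have h1 := h.nR b hr
      rw [n_add] at h1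
      exact eq_of_add_eq_zero h.two h1
    have e2 := h.n_z_exact (m.CY hc) hb hxB
    have e3 := h.n_z_exact (m.CY hc') hb hyB
    rw [e1] at e3
    have hzc := h.z_mem (m.CY hc) hb
    have hzc' := h.z_mem (m.CY hc') hb
    have hzC := m.z_memC hL hc hb
    have hzC' := m.z_memC hL hc' hb
    have hbV : n b (n c x) ∈ V := h.nBV hb _
    have r2 : n c (n b (n c x)) ∈ R := (m.CY hc).1 _ hbV
    have r3 : n c' (n b (n c x)) ∈ R := (m.CY hc').1 _ hbV
    have f1 : ∀ d ∈ C, n d (n (z c' b) y) = n d (n (z c b) x) := by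
      intro d hd
      rw [e2, e3, n_add, n_add, h.nR d r2, h.nR d r3]
    refine ⟨z c' b, m.z_memZ hL hc' hb, f1, ?_⟩
    -- `n c' (n b (n c x)) = n c (n e' x)`
    have g1 : n c' (n b (n c x)) = n c (n (z c' b) x) := by
      have a1 : n c' (n b (n c x)) = n c' (n (z c' b) y) := by
        rw [e3, n_add, h.nR c' r3, add_zero]
      have a2 : n (z c' b) (n c' y) = n (z c' b) (n c x) := by
        have h1 := h.nR (z c' b) hr
        rw [n_add] at h1
        exact eq_of_add_eq_zero h.two h1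
      rw [a1, m.f_symm hc' hzC', a2, m.f_symm hzC' hc]
    have g2 : n c (n b (n c x)) = n c (n (z c' b) y) := by
      rw [f1 c hc, e2, n_add, h.nR c r2, add_zero]
    have g3 : n (z c' b) y + n (z c b) x = n c' (n b (n c x)) + n c (n b (n c x)) := by
      rw [e2, e3]
      have h1 := h.two (n b (n c x))
      calc n b (n c x) + n c' (n b (n c x)) + (n b (n c x) + n c (n b (n c x)))
          = (n b (n c x) + n b (n c x)) + (n c' (n b (n c x)) + n c (n b (n c x))) := by abel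
        _ = _ := by rw [h1, zero_add]
    rw [g3, g1, g2, n_add, n_add]
  -- a fixed element `e ≠ 1`
  obtain ⟨a₁, a₂, ha₁, ha₂, ha₃⟩ := m.exists_two' hL h4
  have hmv : ∀ a : C, a ∉ CC B C → ∃ b ∈ B, b * (a : H) * b⁻¹ ≠ a := by
    intro a ha
    by_contra hcon
    push Not at hcon
    exact ha (mem_CC.2 hcon)
  obtain ⟨b₀, hb₀, hne₀⟩ := m.moved
  set e := z c₁ b₀ with he
  have heZ : e ∈ h.Z m.c1Y := (h.mem_Z _).2 ⟨b₀, hb₀, rfl⟩
  have he1 : e ≠ 1 := fun h1 => hne₀ ((h.z_eq_one m.c1Y).1 h1)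
  -- `e'` does not depend on `c`
  obtain ⟨e', he'Z, he', hκ₁⟩ := hstep c₁ m.c1 b₀ hb₀
  have key : ∀ a : C, a ∉ CC B C → n e' y + n e x = n (a : H) (n e' (x + y)) := by
    intro a ha
    have h1 : e ∈ h.Z (m.CY a.2) := by rw [m.Z_eq hL a.2 (hmv a ha)]; exact heZ
    obtain ⟨b, hb, hbe⟩ := (h.mem_Z _).1 h1
    obtain ⟨e'', he''Z, he'', hκ⟩ := hstep a a.2 b hb
    rw [hbe] at he'' hκ
    have h2 : e' = e'' := by
      have h3 : e' * e'' = 1 := by
        refine m.radx hL hy ((h.Z m.c1Y).mul_mem he'Z he''Z) fun d hd => ?_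
        rw [h.n_mul_V (m.CY (hZC he''Z)) ((m.CY hd).2 y), m.f_symm (hZC he'Z) hd, m.f_symm (hZC he''Z) hd,
          he' d hd, he'' d hd, h.two]
      have h4 : e''⁻¹ = e'' := h.inv_YY (m.CY (hZC he''Z))
      rw [← h4]
      exact eq_inv_of_mul_eq_one_left h3
    rw [h2]; exact hκ
  have he'V : n e' (x + y) ∈ V := (m.CY (hZC he'Z)).2 _
  have k1 := key a₁ ha₁
  have k2 := key a₂ ha₂
  have k3 := key (a₂ * a₁) ha₃
  have k4 : n e' y + n e x = 0 := by
    have h1 : n ((a₂ * a₁ : C) : H) (n e' (x + y)) = n (a₂ : H) (n e' (x + y)) + n (a₁ : H) (n e' (x + y)) :=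
      h.n_mul_V (m.CY a₁.2) he'V
    rw [h1, ← k1, ← k2, h.two] at k3
    exact k3
  have k5 : ∀ c ∈ C, n c (n e' (x + y)) = 0 := by
    intro c hc
    by_cases hcc : (⟨c, hc⟩ : C) ∈ CC B C
    · have h1 : (⟨c, hc⟩ : C) * a₁ ∉ CC B C := fun h2 => ha₁ ((Subgroup.mul_mem_cancel_left _ hcc).1 h2)
      have h2 := key _ h1
      have h3 : n (((⟨c, hc⟩ : C) * a₁ : C) : H) (n e' (x + y)) = n c (n e' (x + y)) +
          n (a₁ : H) (n e' (x + y)) := h.n_mul_V (m.CY a₁.2) he'V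
      rw [h3, ← k1, k4, add_zero] at h2
      exact h2.symm
    · rw [← k4]; exact (key ⟨c, hc⟩ hcc).symm
  have k6 : e' = 1 := m.radx hL hxy he'Z fun d hd => by
    rw [m.f_symm (hZC he'Z) hd]; exact k5 d hd
  refine he1 (m.radx hL hx heZ fun d hd => ?_)
  rw [m.f_symm (hZC heZ) hd, ← he' d hd, k6, n_one h.two, n_zero]

end Mn

namespace Dat

theorem NN_YY [Finite H] [Finite W] (h : Dat X T O B R V lam) (hL : LL X T B L) (h4 : 4 ≤ Nat.card B) :
    NN L V h.YY := by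
  by_contra hcon
  obtain ⟨C, c₁, m⟩ := h.exists_mn hL hcon
  exact m.false hL h4

/-- every `k ∈ X` trivial on `V / R` centralises `[V, L]` -/
theorem main_L [Finite H] [Finite W] (h : Dat X T O B R V lam) (hL : LL X T B L) (h4 : 4 ≤ Nat.card B) :
    ∀ l ∈ L, ∀ k ∈ X, (∀ v ∈ V, n k v ∈ R) → ∀ v ∈ V, n k (n l v) = 0 := by
  have hNN := h.NN_YY hL h4
  -- odd elements
  have hodd : ∀ k ∈ X, (∀ v ∈ V, n k v ∈ R) → ∀ l ∈ L, OddE l → ∀ v ∈ V, n k (n l v) = 0 := by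
    intro k hk hkV l hl ho
    refine h.n_odd' hL.LX hl ho fun v hv => ?_
    have hlX := hL.LX hl
    have hk' : ∀ v ∈ V, n k⁻¹ v = n k v := fun v hv => by
      rw [n_inv h.two, h.fixR _ _ (hkV v hv)]
    have hc : ∀ v ∈ V, n (l * k⁻¹ * l⁻¹) v = n k (l⁻¹ • v) := fun v hv => by
      have h1 := h.XV _ (X.inv_mem hlX) v hv
      rw [n_conj, hk' _ h1, h.fixR _ _ (hkV _ h1)]
    have hcR : ∀ v ∈ V, n (l * k⁻¹ * l⁻¹) v ∈ R := fun v hv => by
      rw [hc v hv]; exact hkV _ (h.XV _ (X.inv_mem hlX) v hv)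
    have hy : k * (l * k⁻¹ * l⁻¹) ∈ h.YY := by
      refine ⟨fun v hv => ?_, fun w => ?_⟩
      · rw [n_mul h.two, h.nR k (hcR v hv), add_zero]
        exact R.add_mem (hkV v hv) (hcR v hv)
      · -- trivial on `W / V`
        have e1 : l⁻¹ • w = w + n l⁻¹ w := smul_eq h.two _ _
        have e2 : l • (k⁻¹ • (l⁻¹ • w)) = k⁻¹ • w + (n l (k⁻¹ • w) + l • (k⁻¹ • n l⁻¹ w)) := by
          rw [e1, smul_add, smul_add, smul_eq h.two l (k⁻¹ • w)]; abel
        have e3 : n (k * (l * k⁻¹ * l⁻¹)) w = k • (n l (k⁻¹ • w) + l • (k⁻¹ • n l⁻¹ w)) := by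
          have h1 := h.two w
          calc n (k * (l * k⁻¹ * l⁻¹)) w = k • (l • (k⁻¹ • (l⁻¹ • w))) + w := by
                rw [n]; simp only [mul_smul]
            _ = w + k • (n l (k⁻¹ • w) + l • (k⁻¹ • n l⁻¹ w)) + w := by
                rw [e2, smul_add, smul_inv_smul]
            _ = (w + w) + k • (n l (k⁻¹ • w) + l • (k⁻¹ • n l⁻¹ w)) := by abel
            _ = _ := by rw [h1, zero_add]
        rw [e3]
        refine h.XV k hk _ (V.add_mem (h.nLV hL hl _) ?_)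
        exact h.XV l hlX _ (h.XV _ (X.inv_mem hk) _ (h.nLV hL (L.inv_mem hl) w))
    have h1 := hNN _ hy l hl ho v hv
    have hnV : n l v ∈ V := h.n_memV hlX hv
    rw [n_mul h.two, h.nR k (hcR _ hnV), add_zero, hc _ hnV, smul_n] at h1
    have h3 : l⁻¹ * l * l = l := by group
    rw [h3] at h1
    exact eq_of_add_eq_zero h.two h1
  -- all elements
  let A : AddSubgroup W :=
    { carrier := {w | ∀ k ∈ X, (∀ v ∈ V, n k v ∈ R) → n k w = 0}
      zero_mem' := fun k _ _ => n_zero k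
      add_mem' := fun ha hb k hk hkV => by rw [n_add, ha k hk hkV, hb k hk hkV, add_zero]
      neg_mem' := fun ha k hk hkV => by rw [n_neg, ha k hk hkV, neg_zero] }
  have hA : ∀ x ∈ X, ∀ a ∈ A, x • a ∈ A := by
    intro x hx a ha k hk hkV
    have e : n k (x • a) = x • n (x⁻¹ * k * x) a := by
      have h1 := n_conj x (x⁻¹ * k * x) (x • a)
      rw [inv_smul_smul] at h1
      rw [← h1]; congr 1; group
    rw [e, ha _ (X.mul_mem (X.mul_mem (X.inv_mem hx) hk) hx), smul_zero]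
    intro v hv
    have h1 := n_conj x⁻¹ k v
    rw [inv_inv] at h1
    rw [h1]
    exact h.smulR _ (hkV _ (h.XV x hx v hv))
  have hRA : R ≤ A := fun r hr k _ _ => h.nR k hr
  have h1 := h.two_step hL.LX hL.odd hRA (fun l hl => hA l (hL.LX hl)) (fun l hl => by
    obtain ⟨a, m, hm, hlm⟩ : ∃ a m : ℕ, Odd m ∧ l ^ (2 ^ a * m) = 1 := by
      obtain ⟨a, m, hm, e⟩ := Nat.exists_eq_two_pow_mul_odd (orderOf_pos l).ne'
      exact ⟨a, m, hm, by rw [← e]; exact pow_orderOf_eq_one l⟩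
    refine ⟨a, fun v hv k hk hkV => ?_⟩
    exact hodd k hk hkV _ (L.pow_mem hl _) ⟨m, hm, by rw [← pow_mul]; exact hlm⟩ v hv)
  intro l hl k hk hkV v hv
  exact h1 l hl v hv k hk hkV

/-- **THEOREM A.** -/
theorem main [Finite H] [Finite W] (h : Dat X T O B R V lam) (h4 : 4 ≤ Nat.card B) :
    ∀ l ∈ Subgroup.closure {y | ∃ x ∈ X, ∃ b ∈ B, y = x * b * x⁻¹}, ∀ k ∈ X, (∀ v ∈ V, n k v ∈ R) →
      ∀ v ∈ V, n k (n l v) = 0 := by
  obtain ⟨L, hL⟩ := h.exists_LL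
  have h0 := h.main_L hL h4
  have hcl : ∀ x ∈ X, ∀ k ∈ X, (∀ v ∈ V, n k v ∈ R) → x⁻¹ * k * x ∈ X ∧ ∀ v ∈ V, n (x⁻¹ * k * x) v ∈ R := by
    intro x hx k hk hkV
    refine ⟨X.mul_mem (X.mul_mem (X.inv_mem hx) hk) hx, fun v hv => ?_⟩
    have h1 := n_conj x⁻¹ k v
    rw [inv_inv] at h1
    rw [h1]
    exact h.smulR _ (hkV _ (h.XV x hx v hv))
  have hsm : ∀ (x k : H) (w : W), n k (x • w) = x • n (x⁻¹ * k * x) w := by
    intro x k w
    have h1 := n_conj x (x⁻¹ * k * x) (x • w)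
    rw [inv_smul_smul] at h1
    rw [← h1]; congr 1; group
  let U : Subgroup H :=
    { carrier := {l | l ∈ X ∧ ∀ k ∈ X, (∀ v ∈ V, n k v ∈ R) → ∀ v ∈ V, n k (n l v) = 0}
      one_mem' := ⟨X.one_mem, fun k _ _ v _ => by rw [n_one h.two, n_zero]⟩
      mul_mem' := by
        rintro a b ⟨ha, ha'⟩ ⟨hb, hb'⟩
        refine ⟨X.mul_mem ha hb, fun k hk hkV v hv => ?_⟩
        have hbv : n b v ∈ V := h.n_memV hb hv
        rw [n_mul h.two, n_add, n_add, ha' k hk hkV v hv, hb' k hk hkV v hv, ha' k hk hkV _ hbv, add_zero,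
          add_zero]
      inv_mem' := by
        rintro a ⟨ha, ha'⟩
        refine ⟨X.inv_mem ha, fun k hk hkV v hv => ?_⟩
        have h1 := hcl a⁻¹ (X.inv_mem ha) k hk hkV
        rw [n_inv h.two, hsm, ha' _ h1.1 h1.2 v hv, smul_zero] }
  intro l hl
  have h1 : Subgroup.closure {y | ∃ x ∈ X, ∃ b ∈ B, y = x * b * x⁻¹} ≤ U := by
    rw [closure_le]
    rintro _ ⟨x, hx, b, hb, rfl⟩
    refine ⟨X.mul_mem (X.mul_mem hx (h.BX hb)) (X.inv_mem hx), fun k hk hkV v hv => ?_⟩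
    have h2 := hcl x hx k hk hkV
    rw [n_conj, hsm, h0 b (hL.BL hb) _ h2.1 h2.2 _ (h.XV _ (X.inv_mem hx) v hv), smul_zero]
  exact (h1 hl).2

end Dat

end Cfsg.Agent.Omega.FOne.ThmR
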