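import Cfsg.Agent.Omega.NO3b.Dual

/-!
# THEOREM A (bb OMEGA #20655, helper297; proof #21954, helper425): the calculus and the frame

`H` acts on the elementary abelian 2-group `W`; `n g w = g w + w`; `R ≤ C_W(H)`; `cm R E` is the preimage of
`C_{W/R}(E)`.

* `Dat X T O B R V lam` : `H` is faithful on `W/R`, `V` is generated by `R` and the `X`-conjugates of `lam`, `T`
  fixes `lam` modulo `R` and contains a Sylow 2-subgroup of `X`, `O` is normalised by the stabiliser of `lam`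
  modulo `R`, no elementary abelian `E ≤ O` has `|E| > |W : cm E|`, and `B ≤ O ∩ X` is a minimal exact group;
* `YY` : the elements of `H` trivial on `V/R` and on `W/V`; it is elementary abelian;
* `z u b = u u^b`.
-/

set_option autoImplicit false
set_option linter.unusedSectionVars false

namespace Cfsg.Agent.Omega.FOne.ThmR

open Subgroup

section ops

variable {H W : Type*} [Group H] [AddCommGroup W] [DistribMulAction H W]

/-- `g w + w` -/
def n (h : H) (w : W) : W := h • w + w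

theorem n_add (h : H) (v w : W) : n h (v + w) = n h v + n h w := by
  simp only [n, smul_add]; abel

theorem n_zero (h : H) : n h (0 : W) = 0 := by simp [n]

theorem n_neg (h : H) (w : W) : n h (-w) = - n h w := by
  simp only [n, smul_neg]; abel

/-- `n h` as an additive homomorphism -/
def nHom (h : H) : W →+ W where
  toFun := n h
  map_zero' := n_zero h
  map_add' := n_add h

@[simp] theorem nHom_apply (h : H) (w : W) : nHom h w = n h w := rfl

theorem n_conj (g h : H) (w : W) : n (g * h * g⁻¹) w = g • n h (g⁻¹ • w) := by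
  simp only [n, smul_add, mul_smul, smul_inv_smul]

/-- the preimage of the fixed points of `E` on `W / R` -/
def cm (R : AddSubgroup W) (E : Subgroup H) : AddSubgroup W where
  carrier := {w | ∀ e ∈ E, n e w ∈ R}
  zero_mem' := fun e _ => by rw [n_zero]; exact R.zero_mem
  add_mem' := fun ha hb e he => by rw [n_add]; exact R.add_mem (ha e he) (hb e he)
  neg_mem' := fun ha e he => by rw [n_neg]; exact R.neg_mem (ha e he)

theorem mem_cm {R : AddSubgroup W} {E : Subgroup H} {w : W} : w ∈ cm R E ↔ ∀ e ∈ E, n e w ∈ R := Iff.rfl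

theorem cm_anti {R : AddSubgroup W} {E F : Subgroup H} (h : E ≤ F) : cm R F ≤ cm R E :=
  fun _ hw e he => hw e (h he)

variable (two : ∀ w : W, w + w = 0)

include two

theorem n_mul (g h : H) (w : W) : n (g * h) w = n g w + n h w + n g (n h w) := by
  simp only [n, mul_smul, smul_add]
  have h1 := two (g • w)
  have h2 := two (h • w)
  have h3 := two w
  calc g • h • w + w = g • h • w + w + 0 + 0 + 0 := by abel
    _ = g • h • w + w + (g • w + g • w) + (h • w + h • w) + (w + w) := by rw [h1, h2, h3]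
    _ = g • w + w + (h • w + w) + (g • h • w + g • w + (h • w + w)) := by abel

theorem neg_eq (w : W) : -w = w := neg_eq_of_add_eq_zero_left (two w)

theorem eq_of_add_eq_zero {a b : W} (h : a + b = 0) : a = b := by
  rw [← neg_eq two b]; exact eq_neg_of_add_eq_zero_left h

theorem smul_eq (h : H) (w : W) : h • w = w + n h w := by
  have h3 := two w
  calc h • w = h • w + 0 := by abel
    _ = h • w + (w + w) := by rw [h3]
    _ = w + n h w := by rw [n]; abel

theorem n_inv (h : H) (w : W) : n h⁻¹ w = h⁻¹ • n h w := by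
  simp only [n, smul_add, inv_smul_smul]
  abel

theorem n_sq (h : H) (w : W) : n (h * h) w = n h (n h w) := by
  rw [n_mul two, two, zero_add]

theorem n_one (w : W) : n (1 : H) w = 0 := by
  rw [n, one_smul, two]

end ops

/-- The frame of THEOREM A. -/
structure Dat {H W : Type*} [Group H] [AddCommGroup W] [DistribMulAction H W] (X T O B : Subgroup H)
    (R V : AddSubgroup W) (lam : W) : Prop where
  two : ∀ w : W, w + w = 0
  fixR : ∀ (h : H), ∀ r ∈ R, h • r = r
  faith : ∀ h : H, (∀ w : W, n h w ∈ R) → h = 1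
  TX : T ≤ X
  T2 : IsPGroup 2 T
  syl : ¬ 2 ∣ T.relIndex X
  BO : B ≤ O
  BX : B ≤ X
  sqB : ∀ b ∈ B, b * b = 1
  quad : ∀ b ∈ B, ∀ c ∈ B, ∀ w, n c (n b w) ∈ R
  no : ∀ E ≤ O, (∀ e ∈ E, e * e = 1) → Nat.card E ≤ (cm R E).index
  ex : Nat.card B = (cm R B).index
  min : ∀ E ≤ B, E ≠ ⊥ → Nat.card E = (cm R E).index → E = B
  RV : R ≤ V
  XV : ∀ x ∈ X, ∀ v ∈ V, x • v ∈ V
  gen : ∀ U : AddSubgroup W, R ≤ U → (∀ x ∈ X, x • lam ∈ U) → V ≤ U
  lamV : lam ∈ V
  Tlam : ∀ t ∈ T, n t lam ∈ R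
  nO : ∀ h : H, n h lam ∈ R → ∀ o ∈ O, h * o * h⁻¹ ∈ O
  cover : ∀ w, ∃ v ∈ V, w + v ∈ cm R B

variable {H W : Type*} [Group H] [AddCommGroup W] [DistribMulAction H W] {X T O B : Subgroup H}
  {R V : AddSubgroup W} {lam : W}

namespace Dat

theorem nR (h : Dat X T O B R V lam) (g : H) {r : W} (hr : r ∈ R) : n g r = 0 := by
  rw [n, h.fixR g r hr, h.two]

theorem smulR (h : Dat X T O B R V lam) (g : H) {r : W} (hr : r ∈ R) : g • r ∈ R := by
  rw [h.fixR g r hr]; exact hr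

/-- equality of elements which agree modulo `R` -/
theorem eq_of (h : Dat X T O B R V lam) {a b : H} (hab : ∀ w : W, a • w + b • w ∈ R) : a = b := by
  have h1 : b⁻¹ * a = 1 := by
    refine h.faith _ fun w => ?_
    have h2 := h.smulR b⁻¹ (hab w)
    rwa [smul_add, inv_smul_smul, ← mul_smul] at h2
  exact (inv_mul_eq_one.1 h1).symm

/-- the elements trivial on `V / R` and on `W / V` -/
def YY (h : Dat X T O B R V lam) : Subgroup H where
  carrier := {u | (∀ v ∈ V, n u v ∈ R) ∧ ∀ w, n u w ∈ V}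
  one_mem' := ⟨fun v _ => by rw [n_one h.two]; exact R.zero_mem,
    fun w => by rw [n_one h.two]; exact V.zero_mem⟩
  mul_mem' := by
    rintro a b ⟨ha, ha'⟩ ⟨hb, hb'⟩
    refine ⟨fun v hv => ?_, fun w => ?_⟩
    · rw [n_mul h.two, h.nR a (hb v hv), add_zero]
      exact R.add_mem (ha v hv) (hb v hv)
    · rw [n_mul h.two]
      exact V.add_mem (V.add_mem (ha' w) (hb' w)) (ha' _)
  inv_mem' := by
    rintro a ⟨ha, ha'⟩
    have hv : ∀ v ∈ V, n a⁻¹ v ∈ R := fun v hv => by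
      rw [n_inv h.two]; exact h.smulR _ (ha v hv)
    refine ⟨hv, fun w => ?_⟩
    rw [n_inv h.two, smul_eq h.two]
    exact V.add_mem (ha' w) (h.RV (hv _ (ha' w)))

theorem mem_YY (h : Dat X T O B R V lam) {u : H} :
    u ∈ h.YY ↔ (∀ v ∈ V, n u v ∈ R) ∧ ∀ w, n u w ∈ V := Iff.rfl

theorem sq_YY (h : Dat X T O B R V lam) {u : H} (hu : u ∈ h.YY) : u * u = 1 :=
  h.faith _ fun w => by
    rw [n_sq h.two]; exact hu.1 _ (hu.2 w)

theorem inv_YY (h : Dat X T O B R V lam) {u : H} (hu : u ∈ h.YY) : u⁻¹ = u :=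
  inv_eq_of_mul_eq_one_right (h.sq_YY hu)

theorem comm_YY (h : Dat X T O B R V lam) {u v : H} (hu : u ∈ h.YY) (hv : v ∈ h.YY) : u * v = v * u := by
  have h1 := h.sq_YY (h.YY.mul_mem hu hv)
  have h2 : (u * v)⁻¹ = u * v := inv_eq_of_mul_eq_one_right h1
  rw [← h2, mul_inv_rev, h.inv_YY hu, h.inv_YY hv]

/-- `φ_u (φ_u x) = 0` -/
theorem n_self (h : Dat X T O B R V lam) {u : H} (hu : u ∈ h.YY) (w : W) : n u (n u w) = 0 := by
  rw [← n_sq h.two, h.sq_YY hu, n_one h.two]

/-- symmetry -/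
theorem n_symm (h : Dat X T O B R V lam) {u v : H} (huv : u * v = v * u) (w : W) :
    n u (n v w) = n v (n u w) := by
  have h1 := n_mul h.two u v w
  rw [huv, n_mul h.two] at h1
  have h2 : n v w + n u w + n v (n u w) = n v w + n u w + n u (n v w) := by
    rw [h1]; abel
  exact (add_left_cancel h2).symm

/-- `φ` is additive on `V` -/
theorem n_mul_V (h : Dat X T O B R V lam) {a b : H} (hb : b ∈ h.YY) {v : W} (hv : v ∈ V) :
    n (a * b) v = n a v + n b v := by
  rw [n_mul h.two, h.nR a (hb.1 v hv), add_zero]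

theorem conj_YY (h : Dat X T O B R V lam) {x : H} (hx : x ∈ X) {u : H} (hu : u ∈ h.YY) :
    x * u * x⁻¹ ∈ h.YY := by
  refine ⟨fun v hv => ?_, fun w => ?_⟩
  · rw [n_conj]; exact h.smulR _ (hu.1 _ (h.XV _ (X.inv_mem hx) v hv))
  · rw [n_conj]; exact h.XV _ hx _ (hu.2 _)

/-- `φ_{x u x⁻¹}(v) = φ_u(x⁻¹ v)` -/
theorem n_conj_V (h : Dat X T O B R V lam) {x : H} (hx : x ∈ X) {u : H} (hu : u ∈ h.YY) {v : W} (hv : v ∈ V) :
    n (x * u * x⁻¹) v = n u (x⁻¹ • v) := by
  rw [n_conj, h.fixR _ _ (hu.1 _ (h.XV _ (X.inv_mem hx) v hv))]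

theorem YY_normO (h : Dat X T O B R V lam) {u : H} (hu : u ∈ h.YY) {o : H} (ho : o ∈ O) : u * o * u⁻¹ ∈ O :=
  h.nO u (hu.1 _ h.lamV) o ho

theorem inv_B (h : Dat X T O B R V lam) {b : H} (hb : b ∈ B) : b⁻¹ = b :=
  inv_eq_of_mul_eq_one_right (h.sqB b hb)

theorem comm_B (h : Dat X T O B R V lam) {b c : H} (hb : b ∈ B) (hc : c ∈ B) : b * c = c * b := by
  have h2 : (b * c)⁻¹ = b * c := inv_eq_of_mul_eq_one_right (h.sqB _ (B.mul_mem hb hc))
  rw [← h2, mul_inv_rev, h.inv_B hb, h.inv_B hc]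

/-- `B` is trivial on `W / V` -/
theorem nBV (h : Dat X T O B R V lam) {b : H} (hb : b ∈ B) (w : W) : n b w ∈ V := by
  obtain ⟨v, hv, hw⟩ := h.cover w
  have h1 := hw b hb
  rw [n_add] at h1
  have h2 : n b v ∈ V := V.add_mem (h.XV b (h.BX hb) v hv) hv
  have h3 := V.add_mem (h.RV h1) h2
  rwa [add_assoc, h.two, add_zero] at h3

end Dat

/-- `z u b = u u^b` -/
def z (u b : H) : H := u * (b * u * b⁻¹)

namespace Dat

theorem z_mem (h : Dat X T O B R V lam) {u b : H} (hu : u ∈ h.YY) (hb : b ∈ B) : z u b ∈ h.YY :=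
  h.YY.mul_mem hu (h.conj_YY (h.BX hb) hu)

theorem z_memO (h : Dat X T O B R V lam) {u b : H} (hu : u ∈ h.YY) (hb : b ∈ B) : z u b ∈ O := by
  have h1 : z u b = (u * b * u⁻¹) * b⁻¹ := by
    rw [z, h.inv_YY hu]; group
  rw [h1]
  exact O.mul_mem (h.YY_normO hu (h.BO hb)) (O.inv_mem (h.BO hb))

theorem z_mul_left (h : Dat X T O B R V lam) {u v b : H} (hu : u ∈ h.YY) (hv : v ∈ h.YY) (hb : b ∈ B) :
    z (u * v) b = z u b * z v b := by
  have h1 := h.comm_YY hv (h.conj_YY (h.BX hb) hu)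
  calc z (u * v) b = u * (v * (b * u * b⁻¹)) * (b * v * b⁻¹) := by rw [z]; group
    _ = u * ((b * u * b⁻¹) * v) * (b * v * b⁻¹) := by rw [h1]
    _ = z u b * z v b := by rw [z, z]; group

/-- the exact formula: `n b⁻¹ x = 0` modulo `R` -/
theorem n_z_exact (h : Dat X T O B R V lam) {u b : H} (hu : u ∈ h.YY) (hb : b ∈ B) {x : W}
    (hx : x ∈ cm R B) : n (z u b) x = n b (n u x) + n u (n b (n u x)) := by
  have h1 : b⁻¹ • x = x + n b⁻¹ x := smul_eq h.two _ _
  have h2 : n u (b⁻¹ • x) = n u x := by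
    rw [h1, n_add, h.nR u (hx _ (B.inv_mem hb)), add_zero]
  have h3 : n (b * u * b⁻¹) x = n u x + n b (n u x) := by
    rw [n_conj, h2, smul_eq h.two]
  rw [z, n_mul h.two, h3, n_add, h.n_self hu]
  have h4 := h.two (n u x)
  calc n u x + (n u x + n b (n u x)) + (0 + n u (n b (n u x)))
      = (n u x + n u x) + n b (n u x) + n u (n b (n u x)) := by abel
    _ = _ := by rw [h4, zero_add]

/-- `s_x(z(u,b)) ≡ n_b(s_x(u))` -/
theorem n_z (h : Dat X T O B R V lam) {u b : H} (hu : u ∈ h.YY) (hb : b ∈ B) (x : W) :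
    n (z u b) x + n b (n u x) ∈ R := by
  obtain ⟨v, hv, hx⟩ := h.cover x
  have h1 := h.n_z_exact hu hb hx
  have h2 : n (z u b) v ∈ R := (h.z_mem hu hb).1 v hv
  have h3 : n b (n u v) = 0 := h.nR b (hu.1 v hv)
  have h4 : n u (n b (n u (x + v))) ∈ R := hu.1 _ (h.nBV hb _)
  have h5 : n b (n u (x + v)) = n b (n u x) := by rw [n_add, n_add, h3, add_zero]
  rw [n_add, h5] at h1
  rw [h5] at h4
  have h6 : n (z u b) x + n b (n u x) = n u (n b (n u x)) + n (z u b) v := by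
    have h7 := h.two (n (z u b) v)
    have h8 := h.two (n b (n u x))
    calc n (z u b) x + n b (n u x) = (n (z u b) x + n (z u b) v) + n b (n u x) + n (z u b) v
          - (n (z u b) v + n (z u b) v) := by abel
      _ = (n b (n u x) + n b (n u x)) + n u (n b (n u x)) + n (z u b) v
          - (n (z u b) v + n (z u b) v) := by rw [h1]; abel
      _ = _ := by rw [h7, h8]; abel
  rw [h6]
  exact R.add_mem h4 h2

/-- `φ_{z(u,b)}(v) = φ_u(n_b v)` -/
theorem n_z_V (h : Dat X T O B R V lam) {u b : H} (hu : u ∈ h.YY) (hb : b ∈ B) {v : W} (hv : v ∈ V) :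
    n (z u b) v = n u (n b v) := by
  rw [z, h.n_mul_V (h.conj_YY (h.BX hb) hu) hv, h.n_conj_V (h.BX hb) hu hv, ← n_add, h.inv_B hb, add_comm v]
  rfl

/-- `B` centralises `z(u,b)` -/
theorem z_commB (h : Dat X T O B R V lam) {u b c : H} (hu : u ∈ h.YY) (hb : b ∈ B) (hc : c ∈ B) :
    c * z u b * c⁻¹ = z u b := by
  have hz := h.z_mem hu hb
  have h1 : z (z u b) c = 1 := by
    refine h.faith _ fun w => ?_
    have h2 := h.n_z hz hc w
    have h3 : n c (n (z u b) w) ∈ R := by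
      have h4 := h.nR c (h.n_z hu hb w)
      rw [n_add] at h4
      rw [eq_of_add_eq_zero h.two h4]
      exact h.quad b hb c hc _
    have h5 := R.add_mem h2 h3
    rwa [add_assoc, h.two, add_zero] at h5
  have h2 : z u b * (c * z u b * c⁻¹) = 1 := h1
  rw [eq_inv_of_mul_eq_one_right h2, h.inv_YY hz]

theorem z_mul_right (h : Dat X T O B R V lam) {u b c : H} (hu : u ∈ h.YY) (hb : b ∈ B) (hc : c ∈ B) :
    z u (b * c) = z u b * z u c := by
  have h1 := h.z_commB hu hc hb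
  have h3 : b * u * b⁻¹ * (b * u * b⁻¹) = 1 := h.sq_YY (h.conj_YY (h.BX hb) hu)
  calc z u (b * c) = u * 1 * (b * c * u * c⁻¹ * b⁻¹) := by rw [z]; group
    _ = u * (b * u * b⁻¹ * (b * u * b⁻¹)) * (b * c * u * c⁻¹ * b⁻¹) := by rw [h3]
    _ = z u b * (b * z u c * b⁻¹) := by rw [z, z]; group
    _ = _ := by rw [h1]

/-- the homomorphism `b ↦ z(u,b)` -/
def zHom (h : Dat X T O B R V lam) {u : H} (hu : u ∈ h.YY) : B →* H where
  toFun b := z u b
  map_one' := by simp [z, h.sq_YY hu]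
  map_mul' b c := h.z_mul_right hu b.2 c.2

/-- `z(u,B)` -/
def Z (h : Dat X T O B R V lam) {u : H} (hu : u ∈ h.YY) : Subgroup H := (h.zHom hu).range

theorem mem_Z (h : Dat X T O B R V lam) {u : H} (hu : u ∈ h.YY) {y : H} :
    y ∈ h.Z hu ↔ ∃ b ∈ B, z u b = y := by
  constructor
  · rintro ⟨b, rfl⟩; exact ⟨b, b.2, rfl⟩
  · rintro ⟨b, hb, rfl⟩; exact ⟨⟨b, hb⟩, rfl⟩

/-- `z(u,b) = 1` iff `b` and `u` commute -/
theorem z_eq_one (h : Dat X T O B R V lam) {u b : H} (hu : u ∈ h.YY) : z u b = 1 ↔ b * u * b⁻¹ = u := by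
  rw [z, mul_eq_one_iff_inv_eq, h.inv_YY hu, eq_comm]

end Dat

end Cfsg.Agent.Omega.FOne.ThmR
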