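import Cfsg.Agent.Omega.FOne.ThmR.Base

/-!
# The hypothesis `cover` of THEOREM A

`B` exact, minimal, no over-offenders below `B`, and no over-offender for the image of `B` on `V / R`:
`|B| ≤ |C_B(V/R)| |V : V ∩ cm B|`; `B` is not trivial on `V / R`: then `W = V + cm B`.
-/

set_option autoImplicit false
set_option linter.unusedSectionVars false

namespace Cfsg.Agent.Omega.FOne.ThmR

open Subgroup

variable {H W : Type*} [Group H] [AddCommGroup W] [DistribMulAction H W]

/-- `C_B(V/R)` -/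
def B0 (two : ∀ w : W, w + w = 0) (B : Subgroup H) (R V : AddSubgroup W) (fixR : ∀ b ∈ B, ∀ r ∈ R, b • r = r) :
    Subgroup H where
  carrier := {b | b ∈ B ∧ ∀ v ∈ V, n b v ∈ R}
  one_mem' := ⟨B.one_mem, fun v _ => by rw [n_one two]; exact R.zero_mem⟩
  mul_mem' := by
    rintro a b ⟨ha, ha'⟩ ⟨hb, hb'⟩
    refine ⟨B.mul_mem ha hb, fun v hv => ?_⟩
    have h1 : n a (n b v) = 0 := by rw [n, fixR a ha _ (hb' v hv), two]
    rw [n_mul two, h1, add_zero]
    exact R.add_mem (ha' v hv) (hb' v hv)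
  inv_mem' := by
    rintro a ⟨ha, ha'⟩
    refine ⟨B.inv_mem ha, fun v hv => ?_⟩
    rw [n_inv two, fixR _ (B.inv_mem ha) _ (ha' v hv)]
    exact ha' v hv

variable {B : Subgroup H} {R V : AddSubgroup W} {two : ∀ w : W, w + w = 0}
  {fixR : ∀ b ∈ B, ∀ r ∈ R, b • r = r}

theorem mem_B0 {b : H} : b ∈ B0 two B R V fixR ↔ b ∈ B ∧ ∀ v ∈ V, n b v ∈ R := Iff.rfl

theorem B0_le : B0 two B R V fixR ≤ B := fun _ hb => hb.1

theorem cover_of [Finite H] [Finite W] (ex : Nat.card B = (cm R B).index)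
    (no : ∀ E ≤ B, Nat.card E ≤ (cm R E).index)
    (min : ∀ E ≤ B, E ≠ ⊥ → Nat.card E = (cm R E).index → E = B)
    (hV : Nat.card B ≤ Nat.card (B0 two B R V fixR) * (cm R B).relIndex V)
    (hne : ∃ b ∈ B, ∃ v ∈ V, n b v ∉ R) : ∀ w, ∃ v ∈ V, w + v ∈ cm R B := by
  set K := cm R B with hK
  set C := cm R (B0 two B R V fixR) with hC
  have hVC : V ≤ C := fun v hv b hb => hb.2 v hv
  have hKC : K ≤ C := cm_anti B0_le
  have e2 : K.relIndex V * (V ⊔ K).index = K.index := by
    have h1 : K.relIndex (V ⊔ K) = K.relIndex V := AddSubgroup.relIndex_sup_right _ _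
    rw [← h1]
    exact AddSubgroup.relIndex_mul_index le_sup_right
  have e3 : C.index ≤ (V ⊔ K).index :=
    Nat.le_of_dvd (Nat.pos_of_ne_zero AddSubgroup.index_ne_zero_of_finite)
      (AddSubgroup.index_dvd_of_le (sup_le hVC hKC))
  have e5 := no _ (B0_le (two := two) (B := B) (R := R) (V := V) (fixR := fixR))
  have p1 : 0 < K.relIndex V := by
    have h1 := AddSubgroup.index_ne_zero_of_finite (H := K)
    rw [← e2] at h1
    exact Nat.pos_of_ne_zero fun h2 => h1 (by rw [h2, zero_mul])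
  have e8 : (V ⊔ K).index ≤ Nat.card (B0 two B R V fixR) := by
    rw [ex, ← e2, mul_comm] at hV
    exact Nat.le_of_mul_le_mul_right hV p1
  have e10 : Nat.card (B0 two B R V fixR) = C.index := le_antisymm e5 (e3.trans e8)
  have hbot : B0 two B R V fixR = ⊥ := by
    by_contra hcon
    have h1 := min _ B0_le hcon e10
    obtain ⟨b, hb, v, hv, hbv⟩ := hne
    rw [← h1] at hb
    exact hbv (hb.2 v hv)
  have h1 : V ⊔ K = ⊤ := by
    rw [← AddSubgroup.index_eq_one]
    have h2 : Nat.card (B0 two B R V fixR) = 1 := by rw [hbot]; exact card_bot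
    rw [h2] at e8
    have h3 : (V ⊔ K).index ≠ 0 := AddSubgroup.index_ne_zero_of_finite
    omega
  intro w
  have h2 : w ∈ V ⊔ K := h1 ▸ AddSubgroup.mem_top w
  rw [AddSubgroup.mem_sup] at h2
  obtain ⟨v, hv, m, hm, rfl⟩ := h2
  refine ⟨v, hv, ?_⟩
  have h3 : v + m + v = m + (v + v) := by abel
  rw [h3, two, add_zero]
  exact hm

end Cfsg.Agent.Omega.FOne.ThmR
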