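import Cfsg.Agent.Omega.FOne.ThmR.Min

/-!
# THEOREM A, step (4): the forms `f_x(c,d) = [[x,d],c]` on `C`
-/

set_option autoImplicit false
set_option linter.unusedSectionVars false

namespace Cfsg.Agent.Omega.FOne.ThmR

open Subgroup

section fn

/-- an additive functional to `ZMod 2` not vanishing at `w` -/
theorem exists_fn {W : Type*} [AddCommGroup W] (two : ∀ w : W, w + w = 0) {w : W} (hw : w ≠ 0) :
    ∃ ρ : W →+ ZMod 2, ρ w ≠ 0 := by
  let _ : Module (ZMod 2) W := AddCommGroup.zmodModule (n := 2) fun x => by rw [two_nsmul, two]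
  by_contra hcon
  push Not at hcon
  apply hw
  rw [← Module.forall_dual_apply_eq_zero_iff (ZMod 2)]
  intro φ
  exact hcon φ.toAddMonoidHom

/-- the sign of an element of `ZMod 2` -/
def sgn (a : ZMod 2) : ℚ := if a = 0 then 1 else -1

theorem sgn_zero : sgn 0 = 1 := if_pos rfl

theorem sgn_add (a b : ZMod 2) : sgn (a + b) = sgn a * sgn b := by
  have h : ∀ a b : ZMod 2, (a = 0 ∨ a = 1) := by decide
  have h11 : (1 : ZMod 2) + 1 = 0 := by decide
  have h10 : (1 : ZMod 2) ≠ 0 := by decide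
  rcases h a 0 with rfl | rfl <;> rcases h b 0 with rfl | rfl
  · simp [sgn]
  · simp [sgn]
  · simp [sgn]
  · rw [h11, sgn_zero, sgn, if_neg h10]; norm_num

theorem sgn_inj {a b : ZMod 2} (hab : sgn a = sgn b) : a = b := by
  have h : ∀ a b : ZMod 2, (a = 0 ∨ a = 1) := by decide
  have h10 : (1 : ZMod 2) ≠ 0 := by decide
  rcases h a 0 with rfl | rfl <;> rcases h b 0 with rfl | rfl
  · rfl
  · rw [sgn_zero, sgn, if_neg h10] at hab; norm_num at hab
  · rw [sgn_zero, sgn, if_neg h10] at hab; norm_num at hab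
  · rfl

end fn

variable {H W : Type*} [Group H] [AddCommGroup W] [DistribMulAction H W] {X T O B L : Subgroup H}
  {R V : AddSubgroup W} {lam : W}

namespace Mn

variable {h : Dat X T O B R V lam} {C : Subgroup H} {c₁ : H}

/-- the elements of `z(c₁,B)` centralise `V ∩ cm B` -/
theorem phi_zero (m : Mn h L C c₁) {y : H} (hy : y ∈ h.Z m.c1Y) {v : W} (hv : v ∈ V) (hv' : v ∈ cm R B) :
    n y v = 0 := by
  obtain ⟨b, hb, rfl⟩ := (h.mem_Z _).1 hy
  rw [h.n_z_V m.c1Y hb hv]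
  exact h.nR _ (hv' b hb)

theorem f_symm (m : Mn h L C c₁) {c d : H} (hc : c ∈ C) (hd : d ∈ C) (x : W) :
    n c (n d x) = n d (n c x) := h.n_symm (h.comm_YY (m.CY hc) (m.CY hd)) x

/-- `f_x(z(c,b), d) = f_x(c, z(d,b))` -/
theorem f_z (m : Mn h L C c₁) {c d b : H} (hc : c ∈ C) (hd : d ∈ C) (hb : b ∈ B) (x : W) :
    n (z c b) (n d x) = n c (n (z d b) x) := by
  rw [h.n_z_V (m.CY hc) hb ((m.CY hd).2 x)]
  have h1 := h.n_z (m.CY hd) hb x
  have h2 := h.nR c h1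
  rw [n_add] at h2
  exact (eq_of_add_eq_zero h.two h2).symm

/-- `f` is `L`-invariant -/
theorem f_conj (m : Mn h L C c₁) (hL : LL X T B L) {l c d : H} (hl : l ∈ L) (hc : c ∈ C) (hd : d ∈ C) (x : W) :
    n (l * c * l⁻¹) (n (l * d * l⁻¹) x) = n c (n d x) := by
  have hlX := hL.LX hl
  have h1 : n (l * d * l⁻¹) x = l • n d x + l • n d (n l⁻¹ x) := by
    rw [n_conj, smul_eq h.two l⁻¹ x, n_add, smul_add]
  have h2 : l • n d (n l⁻¹ x) ∈ R := h.smulR l ((m.CY hd).1 _ (h.nLV hL (L.inv_mem hl) x))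
  rw [h1, n_add, h.nR _ h2, add_zero, h.n_conj_V hlX (m.CY hc) (h.XV l hlX _ ((m.CY hd).2 x)), inv_smul_smul]

/-- some `f_y` is not zero -/
theorem exists_f [Finite H] [Finite W] (m : Mn h L C c₁) (hL : LL X T B L) :
    ∃ y : W, ∃ c ∈ C, ∃ d ∈ C, n c (n d y) ≠ 0 := by
  by_contra hcon
  push Not at hcon
  have h1 : ∀ y ∈ h.Z m.c1Y, ∀ v ∈ V, n y v = 0 := by
    intro y hy v hv
    obtain ⟨x, m', hm', rfl⟩ := (h.one m.c1Y m.moved).2.2.2 v
    have hx : n c₁ x ∈ V := m.c1Y.2 x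
    have hmV : m' ∈ V := by
      have := V.add_mem hx hv
      rwa [← add_assoc, h.two, zero_add] at this
    rw [n_add, hcon x y (m.Z_le_C hL m.c1 hy) c₁ m.c1, m.phi_zero hy hmV hm', add_zero]
  let U : Subgroup H :=
    { carrier := {u | u ∈ h.YY ∧ ∀ v ∈ V, n u v = 0}
      one_mem' := ⟨h.YY.one_mem, fun v _ => n_one h.two v⟩
      mul_mem' := by
        rintro a b ⟨ha, ha'⟩ ⟨hb, hb'⟩
        refine ⟨h.YY.mul_mem ha hb, fun v hv => ?_⟩
        rw [h.n_mul_V hb hv, ha' v hv, hb' v hv, add_zero]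
      inv_mem' := by
        rintro a ⟨ha, ha'⟩
        refine ⟨h.YY.inv_mem ha, fun v hv => ?_⟩
        rw [n_inv h.two, ha' v hv, smul_zero] }
  have hCU : C ≤ U := m.gen U fun l hl b hb => by
    have hz := h.z_mem m.c1Y hb
    refine ⟨h.conj_YY (hL.LX hl) hz, fun v hv => ?_⟩
    rw [h.n_conj_V (hL.LX hl) hz hv]
    exact h1 _ ((h.mem_Z _).2 ⟨b, hb, rfl⟩) _ (h.XV _ (X.inv_mem (hL.LX hl)) v hv)
  refine m.nn fun d hd l hl ho v hv => ?_
  exact (hCU hd).2 _ (h.n_memV (hL.LX hl) hv)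

/-- `z(c₁,B) ∩ C(L) = 1` -/
theorem Z_cap [Finite H] [Finite W] (m : Mn h L C c₁) (hL : LL X T B L) {y : H} (hy : y ∈ h.Z m.c1Y)
    (hyL : ∀ l ∈ L, l * y * l⁻¹ = y) : y = 1 := by
  obtain ⟨b, hb, rfl⟩ := (h.mem_Z _).1 hy
  have hzY := h.z_mem m.c1Y hb
  have h1 : b = 1 := by
    refine h.eq_one_of_CV hL hb fun v _ => ?_
    obtain ⟨x, m', hm', rfl⟩ := (h.one m.c1Y m.moved).2.2.2 v
    have hRL : R ≤ cm R L := fun r hr l _ => by rw [h.nR l hr]; exact R.zero_mem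
    have h2 : n (z c₁ b) x ∈ cm R L := by
      intro l hl
      have h3 : l * z c₁ b = z c₁ b * l := mul_inv_eq_iff_eq_mul.1 (hyL l hl)
      rw [h.n_symm h3]
      exact hzY.1 _ (h.nLV hL hl x)
    have h3 := (cm R L).add_mem h2 (hRL (h.n_z m.c1Y hb x))
    rw [← add_assoc, h.two, zero_add] at h3
    rw [n_add]
    exact (cm R L).add_mem h3 (hRL (hm' b hb))
  rw [h1]
  exact (h.z_eq_one m.c1Y).2 (by group)

/-- the radical of a non-zero `ρ ∘ f_y` meets `z(c₁,B)` trivially -/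
theorem rad [Finite H] [Finite W] (m : Mn h L C c₁) (hL : LL X T B L) {A : Type*} [AddCommGroup A] (ρ : W →+ A)
    {y : W} (hy : ∃ c ∈ C, ∃ d ∈ C, ρ (n c (n d y)) ≠ 0) {e : H} (he : e ∈ h.Z m.c1Y)
    (h0 : ∀ d ∈ C, ρ (n e (n d y)) = 0) : e = 1 := by
  let D : Subgroup H :=
    { carrier := {c | c ∈ C ∧ ∀ d ∈ C, ρ (n c (n d y)) = 0}
      one_mem' := ⟨C.one_mem, fun d _ => by rw [n_one h.two, map_zero]⟩
      mul_mem' := by
        rintro a b ⟨ha, ha'⟩ ⟨hb, hb'⟩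
        refine ⟨C.mul_mem ha hb, fun d hd => ?_⟩
        rw [h.n_mul_V (m.CY hb) ((m.CY hd).2 y), map_add, ha' d hd, hb' d hd, add_zero]
      inv_mem' := by
        rintro a ⟨ha, ha'⟩
        refine ⟨C.inv_mem ha, fun d hd => ?_⟩
        rw [h.inv_YY (m.CY ha)]; exact ha' d hd }
  have hDC : D ≤ C := fun c hc => hc.1
  have hDn : ∀ l ∈ L, ∀ d ∈ D, l * d * l⁻¹ ∈ D := by
    rintro l hl c ⟨hc, hc'⟩
    refine ⟨m.LI l hl c hc, fun d hd => ?_⟩
    have hd' : l⁻¹ * d * l ∈ C := by simpa using m.LI _ (L.inv_mem hl) d hd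
    have h1 := m.f_conj hL hl hc hd' y
    have h2 : l * (l⁻¹ * d * l) * l⁻¹ = d := by group
    rw [h2] at h1
    rw [h1]; exact hc' _ hd'
  rcases m.dich hL hDC hDn with h1 | h1
  · obtain ⟨c, hc, d, hd, h2⟩ := hy
    exact absurd ((h1 hc).2 d hd) h2
  · exact m.Z_cap hL he fun l hl => h1 l hl e ⟨m.Z_le_C hL m.c1 he, h0⟩

/-- the elements of `C` centralised by `B`, in `C` -/
def CC (B C : Subgroup H) : Subgroup C := (centralizer (B : Set H)).subgroupOf C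

theorem mem_CC {c : C} : c ∈ CC B C ↔ ∀ b ∈ B, b * (c : H) * b⁻¹ = c := by
  rw [CC, mem_subgroupOf, mem_centralizer_iff]
  exact forall₂_congr fun b _ => by rw [mul_inv_eq_iff_eq_mul]

theorem card_le_CC [Finite H] [Finite W] (m : Mn h L C c₁) (hL : LL X T B L) :
    Nat.card B ≤ (CC B C).index := by
  obtain ⟨y, c₀, hc₀, d₀, hd₀, hne⟩ := m.exists_f hL
  obtain ⟨ρ, hρ⟩ := exists_fn h.two hne
  have hex : ∃ c ∈ C, ∃ d ∈ C, ρ (n c (n d y)) ≠ 0 := ⟨c₀, hc₀, d₀, hd₀, hρ⟩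
  rw [← (h.one m.c1Y m.moved).2.1]
  have hZC := m.Z_le_C hL m.c1
  let χ : h.Z m.c1Y → (C →* ℚ) := fun e =>
    { toFun := fun c => sgn (ρ (n (c : H) (n (e : H) y)))
      map_one' := by
        show sgn (ρ (n (1 : H) _)) = 1
        rw [n_one h.two, map_zero, sgn_zero]
      map_mul' := fun a b => by
        show sgn (ρ (n ((a : H) * b) _)) = _
        rw [h.n_mul_V (m.CY b.2) ((m.CY (hZC e.2)).2 y), map_add, sgn_add] }
  have hχ : ∀ e c, χ e c = sgn (ρ (n (c : H) (n (e : H) y))) := fun _ _ => rfl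
  refine NO3b.Dual.card_homs_le (CC B C) χ ?_ ?_
  · intro e e' hee
    have h1 : (e : H) * e' = 1 := by
      refine m.rad hL ρ hex ((h.Z m.c1Y).mul_mem e.2 e'.2) fun d hd => ?_
      have h2 : χ e ⟨d, hd⟩ = χ e' ⟨d, hd⟩ := by rw [hee]
      rw [hχ, hχ] at h2
      have h3 := sgn_inj h2
      have h4 : ∀ a : ZMod 2, a + a = 0 := by decide
      rw [h.n_mul_V (m.CY (hZC e'.2)) ((m.CY hd).2 y), map_add, m.f_symm (hZC e.2) hd,
        m.f_symm (hZC e'.2) hd, h3, h4]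
    apply Subtype.ext
    have h2 : (e' : H)⁻¹ = e' := h.inv_YY (m.CY (hZC e'.2))
    rw [← h2]
    exact eq_inv_of_mul_eq_one_left h1
  · intro e c hc
    rw [hχ]
    obtain ⟨b, hb, hbe⟩ := (h.mem_Z _).1 e.2
    have h1 : z (c : H) b = 1 := (h.z_eq_one (m.CY c.2)).2 (mem_CC.1 hc b hb)
    rw [m.f_symm c.2 (hZC e.2), ← hbe, m.f_z m.c1 c.2 hb, h1, n_one h.two, n_zero, map_zero, sgn_zero]

theorem R_le_cm (h : Dat X T O B R V lam) (E : Subgroup H) : R ≤ cm R E := fun r hr l _ => by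
  rw [h.nR l hr]; exact R.zero_mem

/-- `W = [x, C] + cm B` for `x ∉ cm C` -/
theorem full [Finite H] [Finite W] (m : Mn h L C c₁) (hL : LL X T B L) {x : W} (hx : x ∉ cm R C) (w : W) :
    ∃ c ∈ C, w + n c x ∈ cm R B := by
  let Q := W ⧸ cm R B
  have hadd : ∀ a ∈ C, ∀ b ∈ C, (QuotientAddGroup.mk (n (a * b) x) : W ⧸ cm R B) =
      QuotientAddGroup.mk (n a x) + QuotientAddGroup.mk (n b x) := by
    intro a ha b hb
    rw [n_mul h.two, ← QuotientAddGroup.mk_add, QuotientAddGroup.eq]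
    have h1 : -(n a x + n b x + n a (n b x)) + (n a x + n b x) = -(n a (n b x)) := by abel
    rw [h1]
    exact (cm R B).neg_mem (R_le_cm h B ((m.CY ha).1 _ ((m.CY hb).2 x)))
  let ψ : C →* Multiplicative (W ⧸ cm R B) :=
    { toFun := fun c => Multiplicative.ofAdd (QuotientAddGroup.mk (n (c : H) x))
      map_one' := by
        show Multiplicative.ofAdd (QuotientAddGroup.mk (n (1 : H) x) : W ⧸ cm R B) = 1
        rw [n_one h.two]; rfl
      map_mul' := fun a b => by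
        show Multiplicative.ofAdd (QuotientAddGroup.mk (n ((a : H) * b) x) : W ⧸ cm R B) = _
        rw [hadd a a.2 b b.2]; rfl }
  have hker : ψ.ker ≤ CC B C := by
    intro c hc
    have h1 : (QuotientAddGroup.mk (n (c : H) x) : W ⧸ cm R B) = 0 := hc
    rw [QuotientAddGroup.eq_zero_iff] at h1
    rw [mem_CC]
    by_contra hcon
    push Not at hcon
    apply hx
    rw [m.mem_cm hL, ← h.mem_cm_Z m.c1Y, ← m.Z_eq hL c.2 hcon, h.mem_cm_Z]
    exact h1
  have h1 : Nat.card (Multiplicative (W ⧸ cm R B)) ≤ Nat.card ψ.range := by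
    rw [← index_ker ψ]
    calc Nat.card (Multiplicative (W ⧸ cm R B)) = (cm R B).index := rfl
      _ = Nat.card B := h.ex.symm
      _ ≤ (CC B C).index := m.card_le_CC hL
      _ ≤ ψ.ker.index := Nat.le_of_dvd (Nat.pos_of_ne_zero index_ne_zero_of_finite) (index_dvd_of_le hker)
  have h2 : ψ.range = ⊤ := by
    apply eq_top_of_card_eq
    exact le_antisymm (card_le_card_group _) h1
  have h3 : Multiplicative.ofAdd (QuotientAddGroup.mk w : W ⧸ cm R B) ∈ ψ.range := h2 ▸ mem_top _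
  obtain ⟨c, hc⟩ := h3
  have h4 : (QuotientAddGroup.mk (n (c : H) x) : W ⧸ cm R B) = QuotientAddGroup.mk w := hc
  rw [QuotientAddGroup.eq, neg_eq h.two] at h4
  exact ⟨c, c.2, by rwa [add_comm]⟩

/-- `[x, C] + R` does not depend on `x ∉ cm C` -/
theorem same [Finite H] [Finite W] (m : Mn h L C c₁) (hL : LL X T B L) (x : W) {x' : W} (hx : x' ∉ cm R C)
    {c : H} (hc : c ∈ C) : ∃ c' ∈ C, n c' x' + n c x ∈ R := by
  -- `E = [x', C] + R`
  let E : AddSubgroup W :=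
    { carrier := {w | ∃ c ∈ C, n c x' + w ∈ R}
      zero_mem' := ⟨1, C.one_mem, by rw [n_one h.two, add_zero]; exact R.zero_mem⟩
      add_mem' := by
        rintro a b ⟨c, hc, hc'⟩ ⟨d, hd, hd'⟩
        refine ⟨c * d, C.mul_mem hc hd, ?_⟩
        rw [n_mul h.two]
        have h1 : n c x' + n d x' + n c (n d x') + (a + b) = (n c x' + a) + (n d x' + b) + n c (n d x') := by
          abel
        rw [h1]
        exact R.add_mem (R.add_mem hc' hd') ((m.CY hc).1 _ ((m.CY hd).2 x'))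
      neg_mem' := by
        rintro a ⟨c, hc, hc'⟩
        exact ⟨c, hc, by rwa [neg_eq h.two]⟩ }
  have hRE : R ≤ E := fun r hr => ⟨1, C.one_mem, by rw [n_one h.two, zero_add]; exact hr⟩
  have hmemE : ∀ c ∈ C, n c x' ∈ E := fun c hc => ⟨c, hc, by rw [h.two]; exact R.zero_mem⟩
  have hEL : ∀ l ∈ L, ∀ w ∈ E, l • w ∈ E := by
    rintro l hl w ⟨c, hc, hc'⟩
    refine ⟨l * c * l⁻¹, m.LI l hl c hc, ?_⟩
    rw [n_conj, smul_eq h.two l⁻¹ x', n_add, smul_add]
    have h1 : l • n c x' + l • n c (n l⁻¹ x') + l • w = l • (n c x' + w) + l • n c (n l⁻¹ x') := by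
      rw [smul_add]; abel
    rw [h1]
    exact R.add_mem (h.smulR l hc') (h.smulR l ((m.CY hc).1 _ (h.nLV hL (L.inv_mem hl) x')))
  have hZ : ∀ b ∈ B, n (z c₁ b) x ∈ E := by
    intro b hb
    obtain ⟨c, hc, hw⟩ := m.full hL hx (n c₁ x)
    have h1 : n (z c₁ b) x + n b (n c₁ x) ∈ E := hRE (h.n_z m.c1Y hb x)
    have h2 : n b (n c₁ x) + n b (n c x') ∈ E := by
      rw [← n_add]; exact hRE (hw b hb)
    have h3 : n (z c b) x' + n b (n c x') ∈ E := hRE (h.n_z (m.CY hc) hb x')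
    have h4 : n (z c b) x' ∈ E := hmemE _ (m.z_memC hL hc hb)
    have h5 := E.add_mem (E.add_mem h1 h2) (E.add_mem h3 h4)
    have e1 := h.two (n b (n c₁ x))
    have e2 := h.two (n b (n c x'))
    have e3 := h.two (n (z c b) x')
    have h6 : n (z c₁ b) x + n b (n c₁ x) + (n b (n c₁ x) + n b (n c x')) +
        (n (z c b) x' + n b (n c x') + n (z c b) x') = n (z c₁ b) x := by
      calc _ = n (z c₁ b) x + (n b (n c₁ x) + n b (n c₁ x)) + (n b (n c x') + n b (n c x')) +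
            (n (z c b) x' + n (z c b) x') := by abel
        _ = _ := by rw [e1, e2, e3]; abel
    rwa [h6] at h5
  let U : Subgroup H :=
    { carrier := {u | u ∈ h.YY ∧ n u x ∈ E}
      one_mem' := ⟨h.YY.one_mem, by rw [n_one h.two]; exact E.zero_mem⟩
      mul_mem' := by
        rintro a b ⟨ha, ha'⟩ ⟨hb, hb'⟩
        refine ⟨h.YY.mul_mem ha hb, ?_⟩
        rw [n_mul h.two]
        exact E.add_mem (E.add_mem ha' hb') (hRE (ha.1 _ (hb.2 x)))
      inv_mem' := by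
        rintro a ⟨ha, ha'⟩
        refine ⟨h.YY.inv_mem ha, ?_⟩
        rw [h.inv_YY ha]; exact ha' }
  have hCU : C ≤ U := m.gen U fun l hl b hb => by
    have hz := h.z_mem m.c1Y hb
    refine ⟨h.conj_YY (hL.LX hl) hz, ?_⟩
    rw [n_conj, smul_eq h.two l⁻¹ x, n_add]
    exact hEL l hl _ (E.add_mem (hZ b hb) (hRE (hz.1 _ (h.nLV hL (L.inv_mem hl) x))))
  exact (hCU hc).2

/-- `f_x ≠ 0` for `x ∉ cm C` -/
theorem f_ne [Finite H] [Finite W] (m : Mn h L C c₁) (hL : LL X T B L) {x : W} (hx : x ∉ cm R C) :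
    ∃ c ∈ C, ∃ d ∈ C, n c (n d x) ≠ 0 := by
  obtain ⟨y, c, hc, d, hd, hne⟩ := m.exists_f hL
  obtain ⟨d', hd', h1⟩ := m.same hL y hx hd
  refine ⟨c, hc, d', hd', fun h2 => hne ?_⟩
  have h3 := h.nR c h1
  rw [n_add, h2, zero_add] at h3
  exact h3

theorem radx [Finite H] [Finite W] (m : Mn h L C c₁) (hL : LL X T B L) {x : W} (hx : x ∉ cm R C) {e : H}
    (he : e ∈ h.Z m.c1Y) (h0 : ∀ d ∈ C, n e (n d x) = 0) : e = 1 :=
  m.rad hL (AddMonoidHom.id W) (m.f_ne hL hx) he h0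

end Mn

end Cfsg.Agent.Omega.FOne.ThmR
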