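import Cfsg.Agent.Omega.FOne.ThmR.Base

/-!
# THEOREM A, step (2): subgroups acting as 2-groups, the subgroup `L`

* `Odd X T D` : every `X`-conjugate of `T` meets `D` in a subgroup of odd index;
* `Dat.two_step` : if `D ≤ X` is `Odd` and acts as a 2-group on `V / (V ∩ A)`, `R ≤ A`, then `D` is trivial on it;
* `LL` : `B ≤ L ≤ X`, `L = ⟨B^L⟩`, `Odd X T L`;  `Dat.exists_LL`.
-/

set_option autoImplicit false
set_option linter.unusedSectionVars false

namespace Cfsg.Agent.Omega.FOne.ThmR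

open Subgroup

section grp

variable {H : Type*} [Group H]

theorem odd_of_normal [Finite H] {T D N : Subgroup H} (h : ¬ 2 ∣ T.relIndex D) (hND : N ≤ D)
    (hn : ∀ d ∈ D, ∀ m ∈ N, d * m * d⁻¹ ∈ N) : ¬ 2 ∣ T.relIndex N := by
  set T' : Subgroup D := T.subgroupOf D with hT'
  set N' : Subgroup D := N.subgroupOf D with hN'
  have hnor : N'.Normal := ⟨fun m hm d => by
    rw [hN', mem_subgroupOf] at hm ⊢
    exact hn d d.2 m hm⟩
  have e1 : T.relIndex N = T'.relIndex N' := (relIndex_subgroupOf hND).symm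
  rw [e1]
  have h1 : N'.relIndex (N' ⊔ T') = N'.relIndex T' := Subgroup.relIndex_sup_left _ _
  have h2 := Subgroup.relIndex_mul_relIndex (N' ⊓ T') N' (N' ⊔ T') inf_le_left le_sup_left
  have h3 := Subgroup.relIndex_mul_relIndex (N' ⊓ T') T' (N' ⊔ T') inf_le_right le_sup_right
  have h4 : (N' ⊓ T').relIndex T' = N'.relIndex T' := Subgroup.inf_relIndex_right N' T'
  have h4' : (N' ⊓ T').relIndex N' = T'.relIndex N' := Subgroup.inf_relIndex_left N' T'
  rw [h1, h4'] at h2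
  rw [h4, ← h2, mul_comm] at h3
  have h5 : T'.relIndex (N' ⊔ T') = T'.relIndex N' :=
    Nat.eq_of_mul_eq_mul_right (Nat.pos_of_ne_zero (Subgroup.index_ne_zero_of_finite
      (H := N'.subgroupOf T'))) h3
  intro h7
  rw [← h5] at h7
  have h6 := Subgroup.relIndex_mul_index (H := T') (K := N' ⊔ T') le_sup_right
  exact h (h6 ▸ h7.mul_right _ : 2 ∣ T'.index)

/-- `T^x` -/
def cjT (x : H) (T : Subgroup H) : Subgroup H := T.map (MulAut.conj x).toMonoidHom

theorem mem_cjT {x y : H} {T : Subgroup H} : y ∈ cjT x T ↔ ∃ t ∈ T, x * t * x⁻¹ = y := Iff.rfl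

/-- every conjugate of `T` under `X` has odd relative index in `D` -/
def OddX (X T D : Subgroup H) : Prop := ∀ x ∈ X, ¬ 2 ∣ (cjT x T).relIndex D

theorem OddX.of_normal [Finite H] {X T D N : Subgroup H} (h : OddX X T D) (hND : N ≤ D)
    (hn : ∀ d ∈ D, ∀ m ∈ N, d * m * d⁻¹ ∈ N) : OddX X T N := fun x hx => odd_of_normal (h x hx) hND hn

theorem oddX_self {X T : Subgroup H} (h : ¬ 2 ∣ T.relIndex X) : OddX X T X := by
  intro x hx
  have e : cjT x X = X := by
    ext y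
    rw [mem_cjT]
    constructor
    · rintro ⟨t, ht, rfl⟩
      exact X.mul_mem (X.mul_mem hx ht) (X.inv_mem hx)
    · intro hy
      exact ⟨x⁻¹ * y * x, X.mul_mem (X.mul_mem (X.inv_mem hx) hy) hx, by group⟩
  have h1 : (cjT x T).relIndex (cjT x X) = T.relIndex X :=
    relIndex_map_map_of_injective (f := (MulAut.conj x).toMonoidHom) T X (MulAut.conj x).injective
  rw [e] at h1
  rwa [h1]

/-- a subgroup of odd relative index covers the quotients which are 2-groups -/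
theorem cover_of_two [Finite H] {S D K : Subgroup H} (h : ¬ 2 ∣ S.relIndex D)
    (hn : ∀ d ∈ D, ∀ m ∈ K, d * m * d⁻¹ ∈ K) (h2 : ∀ d ∈ D, ∃ k : ℕ, d ^ 2 ^ k ∈ K) :
    ∀ d ∈ D, ∃ s ∈ S, s ∈ D ∧ ∃ k ∈ K, d = s * k := by
  have : Fact (Nat.Prime 2) := ⟨Nat.prime_two⟩
  set S' : Subgroup D := S.subgroupOf D with hS'
  set K' : Subgroup D := K.subgroupOf D with hK'
  have hnor : K'.Normal := ⟨fun m hm d => by
    rw [hK', mem_subgroupOf] at hm ⊢
    exact hn d d.2 m hm⟩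
  have hp : IsPGroup 2 (D ⧸ K') := by
    intro q
    obtain ⟨d, rfl⟩ := QuotientGroup.mk_surjective q
    obtain ⟨k, hk⟩ := h2 d d.2
    refine ⟨k, ?_⟩
    rw [← QuotientGroup.mk_pow, QuotientGroup.eq_one_iff, hK', mem_subgroupOf]
    simpa using hk
  have h3 : ((S' ⊔ K').map (QuotientGroup.mk' K')).index = (S' ⊔ K').index :=
    index_map_eq _ (QuotientGroup.mk'_surjective K') (by rw [QuotientGroup.ker_mk']; exact le_sup_right)
  obtain ⟨j, hj⟩ := hp.index ((S' ⊔ K').map (QuotientGroup.mk' K'))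
  have h4 : (S' ⊔ K').index ∣ S'.index := index_dvd_of_le le_sup_left
  have h5 : (S' ⊔ K').index = 1 := by
    rw [h3] at hj
    rcases Nat.eq_zero_or_pos j with rfl | hj0
    · rw [hj, pow_zero]
    · exact absurd ((dvd_pow_self 2 hj0.ne').trans (hj ▸ h4)) h
  rw [index_eq_one] at h5
  intro d hd
  have h6 : (⟨d, hd⟩ : D) ∈ S' ⊔ K' := h5 ▸ mem_top _
  rw [mem_sup_of_normal_right] at h6
  obtain ⟨s, hs, k, hk, h7⟩ := h6
  refine ⟨s, mem_subgroupOf.1 hs, s.2, k, mem_subgroupOf.1 hk, ?_⟩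
  have := congrArg Subtype.val h7
  simpa using this.symm

end grp

variable {H W : Type*} [Group H] [AddCommGroup W] [DistribMulAction H W] {X T O B : Subgroup H}
  {R V : AddSubgroup W} {lam : W}

namespace Dat

/-- a subgroup `D ≤ X`, `OddX`, acting as a 2-group on `V / (V ∩ A)` is trivial on it -/
theorem two_step [Finite H] (h : Dat X T O B R V lam) {D : Subgroup H} (hDX : D ≤ X) (hS : OddX X T D)
    {A : AddSubgroup W} (hRA : R ≤ A) (hA : ∀ d ∈ D, ∀ a ∈ A, d • a ∈ A)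
    (h2 : ∀ d ∈ D, ∃ k : ℕ, ∀ v ∈ V, n (d ^ 2 ^ k) v ∈ A) : ∀ d ∈ D, ∀ v ∈ V, n d v ∈ A := by
  have hnA : ∀ d ∈ D, ∀ a ∈ A, n d a ∈ A := fun d hd a ha => A.add_mem (hA d hd a ha) ha
  have key : V ≤ cm A D := by
    let K : Subgroup H :=
      { carrier := {d | d ∈ D ∧ ∀ v ∈ V, n d v ∈ A}
        one_mem' := ⟨D.one_mem, fun v _ => by rw [n_one h.two]; exact A.zero_mem⟩
        mul_mem' := by
          rintro a b ⟨ha, ha'⟩ ⟨hb, hb'⟩
          refine ⟨D.mul_mem ha hb, fun v hv => ?_⟩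
          rw [n_mul h.two]
          exact A.add_mem (A.add_mem (ha' v hv) (hb' v hv)) (hnA a ha _ (hb' v hv))
        inv_mem' := by
          rintro a ⟨ha, ha'⟩
          refine ⟨D.inv_mem ha, fun v hv => ?_⟩
          rw [n_inv h.two]
          exact hA _ (D.inv_mem ha) _ (ha' v hv) }
    have hKn : ∀ d ∈ D, ∀ m ∈ K, d * m * d⁻¹ ∈ K := by
      rintro d hd m ⟨hm, hm'⟩
      refine ⟨D.mul_mem (D.mul_mem hd hm) (D.inv_mem hd), fun v hv => ?_⟩
      rw [n_conj]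
      exact hA _ hd _ (hm' _ (h.XV _ (X.inv_mem (hDX hd)) v hv))
    refine h.gen _ (fun r hr d hd => ?_) (fun x hx d hd => ?_)
    · rw [h.nR d hr]; exact A.zero_mem
    · obtain ⟨s, hs, hsD, k, hk, rfl⟩ := cover_of_two (K := K) (hS x hx) hKn
        (fun d hd => by
          obtain ⟨k, hk⟩ := h2 d hd
          exact ⟨k, D.pow_mem hd _, hk⟩) d hd
      have hxV : x • lam ∈ V := h.XV x hx _ h.lamV
      obtain ⟨t, ht, rfl⟩ := hs
      have h3 : n (MulAut.conj x t : H) (x • lam) ∈ A := by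
        rw [MulAut.conj_apply, n_conj, inv_smul_smul]
        exact hRA (h.smulR x (h.Tlam t ht))
      have h4 : n k (x • lam) ∈ A := hk.2 _ hxV
      rw [n_mul h.two]
      exact A.add_mem (A.add_mem h3 h4) (hnA _ hsD _ h4)
  intro d hd v hv
  exact key hv d hd

end Dat

/-- `B ≤ L ≤ X`, `L` is generated by the `L`-conjugates of `B`, and `OddX`. -/
structure LL (X T B L : Subgroup H) : Prop where
  BL : B ≤ L
  LX : L ≤ X
  odd : OddX X T L
  gen : ∀ U : Subgroup H, (∀ l ∈ L, ∀ b ∈ B, l * b * l⁻¹ ∈ U) → L ≤ U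

theorem Dat.exists_LL [Finite H] (h : Dat X T O B R V lam) : ∃ L, LL X T B L := by
  classical
  obtain ⟨L, ⟨hBL, hLX, ho⟩, hmin⟩ := WellFounded.has_min
    (InvImage.wf (fun L : Subgroup H => Nat.card L) Nat.lt_wfRel.wf)
    {L : Subgroup H | B ≤ L ∧ L ≤ X ∧ OddX X T L} ⟨X, h.BX, le_rfl, oddX_self h.syl⟩
  refine ⟨L, hBL, hLX, ho, ?_⟩
  -- the subgroup generated by the conjugates
  let N : Subgroup H := closure {y | ∃ l ∈ L, ∃ b ∈ B, y = l * b * l⁻¹}
  have hNL : N ≤ L := by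
    rw [closure_le]
    rintro _ ⟨l, hl, b, hb, rfl⟩
    exact L.mul_mem (L.mul_mem hl (hBL hb)) (L.inv_mem hl)
  have hBN : B ≤ N := fun b hb => subset_closure ⟨1, L.one_mem, b, hb, by group⟩
  have hn : ∀ d ∈ L, ∀ m ∈ N, d * m * d⁻¹ ∈ N := by
    intro d hd m hm
    refine closure_induction (p := fun m _ => d * m * d⁻¹ ∈ N) ?_ ?_ ?_ ?_ hm
    · rintro _ ⟨l, hl, b, hb, rfl⟩
      exact subset_closure ⟨d * l, L.mul_mem hd hl, b, hb, by group⟩
    · simp
    · intro a b _ _ ha hb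
      have : d * (a * b) * d⁻¹ = (d * a * d⁻¹) * (d * b * d⁻¹) := by group
      rw [this]; exact N.mul_mem ha hb
    · intro a _ ha
      have : d * a⁻¹ * d⁻¹ = (d * a * d⁻¹)⁻¹ := by group
      rw [this]; exact N.inv_mem ha
  have hN : N ∈ {L : Subgroup H | B ≤ L ∧ L ≤ X ∧ OddX X T L} :=
    ⟨hBN, hNL.trans hLX, ho.of_normal hNL hn⟩
  have h1 : ¬ Nat.card N < Nat.card L := hmin N hN
  have h2 : N = L := eq_of_le_of_card_ge hNL (not_lt.1 h1)
  intro U hU
  rw [← h2, closure_le]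
  rintro _ ⟨l, hl, b, hb, rfl⟩
  exact hU l hl b hb

namespace Dat

variable {L : Subgroup H}

/-- `L` is trivial on `W / V` -/
theorem nLV (h : Dat X T O B R V lam) (hL : LL X T B L) {l : H} (hl : l ∈ L) (w : W) : n l w ∈ V := by
  let U : Subgroup H :=
    { carrier := {x | x ∈ X ∧ ∀ w, n x w ∈ V}
      one_mem' := ⟨X.one_mem, fun w => by rw [n_one h.two]; exact V.zero_mem⟩
      mul_mem' := by
        rintro a b ⟨ha, ha'⟩ ⟨hb, hb'⟩
        refine ⟨X.mul_mem ha hb, fun w => ?_⟩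
        rw [n_mul h.two]
        exact V.add_mem (V.add_mem (ha' w) (hb' w)) (ha' _)
      inv_mem' := by
        rintro a ⟨ha, ha'⟩
        refine ⟨X.inv_mem ha, fun w => ?_⟩
        rw [n_inv h.two]
        exact h.XV _ (X.inv_mem ha) _ (ha' w) }
  have h1 : L ≤ U := hL.gen U fun l hl b hb => by
    refine ⟨X.mul_mem (X.mul_mem (hL.LX hl) (h.BX hb)) (X.inv_mem (hL.LX hl)), fun w => ?_⟩
    rw [n_conj]
    exact h.XV _ (hL.LX hl) _ (h.nBV hb _)
  exact (h1 hl).2 w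

/-- the vectors of `V` fixed by `L` modulo `R` -/
def CV (V R : AddSubgroup W) (L : Subgroup H) : AddSubgroup W := V ⊓ cm R L

/-- (c) an element of `B` trivial on `V / C_V(L)` is 1 -/
theorem eq_one_of_CV [Finite H] (h : Dat X T O B R V lam) (hL : LL X T B L) {b : H} (hb : b ∈ B)
    (hbv : ∀ v ∈ V, n b v ∈ cm R L) : b = 1 := by
  -- the subgroup of the elements of `L` trivial on `V / C_V(L)`
  have hsm : ∀ l ∈ L, ∀ a ∈ cm R L, l • a ∈ cm R L := by
    intro l hl a ha g hg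
    have e : n g (l • a) = l • n (l⁻¹ * g * l) a := by
      have h1 := n_conj l (l⁻¹ * g * l) (l • a)
      rw [inv_smul_smul] at h1
      rw [← h1]; congr 1; group
    rw [e]
    exact h.smulR l (ha _ (L.mul_mem (L.mul_mem (L.inv_mem hl) hg) hl))
  let D : Subgroup H :=
    { carrier := {d | d ∈ L ∧ ∀ v ∈ V, n d v ∈ cm R L}
      one_mem' := ⟨L.one_mem, fun v _ => by rw [n_one h.two]; exact (cm R L).zero_mem⟩
      mul_mem' := by
        rintro a b ⟨ha, ha'⟩ ⟨hb, hb'⟩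
        refine ⟨L.mul_mem ha hb, fun v hv => ?_⟩
        rw [n_mul h.two]
        refine (cm R L).add_mem ((cm R L).add_mem (ha' v hv) (hb' v hv)) ?_
        exact (cm R L).add_mem (hsm a ha _ (hb' v hv)) (hb' v hv)
      inv_mem' := by
        rintro a ⟨ha, ha'⟩
        refine ⟨L.inv_mem ha, fun v hv => ?_⟩
        rw [n_inv h.two]
        exact hsm _ (L.inv_mem ha) _ (ha' v hv) }
  have hDn : ∀ d ∈ L, ∀ m ∈ D, d * m * d⁻¹ ∈ D := by
    rintro d hd m ⟨hm, hm'⟩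
    refine ⟨L.mul_mem (L.mul_mem hd hm) (L.inv_mem hd), fun v hv => ?_⟩
    rw [n_conj]
    exact hsm _ hd _ (hm' _ (h.XV _ (X.inv_mem (hL.LX hd)) v hv))
  have h1 : ∀ d ∈ D, ∀ v ∈ V, n d v ∈ R := by
    have hDL : D ≤ L := fun d hd => hd.1
    refine h.two_step (D := D) (hDL.trans hL.LX) (hL.odd.of_normal hDL hDn) le_rfl
      (fun d _ a ha => h.smulR d ha) ?_
    rintro d ⟨hd, hd'⟩
    refine ⟨1, fun v hv => ?_⟩
    rw [pow_one, pow_two, n_sq h.two]
    exact hd' v hv d hd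
  refine h.faith b fun w => ?_
  obtain ⟨v, hv, hw⟩ := h.cover w
  have h2 := hw b hb
  rw [n_add] at h2
  have h3 := R.add_mem h2 (h1 b ⟨hL.BL hb, hbv⟩ v hv)
  rwa [add_assoc, h.two, add_zero] at h3

end Dat

end Cfsg.Agent.Omega.FOne.ThmR
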