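import Cfsg.Agent.Omega.FOne.ThmR.One
import Cfsg.Agent.Omega.FOne.ThmR.Two

/-!
# THEOREM A, step (3): the minimal `L`-invariant subgroup `C` of `YY` which moves `[V, l]`, `l` odd
-/

set_option autoImplicit false
set_option linter.unusedSectionVars false

namespace Cfsg.Agent.Omega.FOne.ThmR

open Subgroup

variable {H W : Type*} [Group H] [AddCommGroup W] [DistribMulAction H W] {X T O B L : Subgroup H}
  {R V : AddSubgroup W} {lam : W}

/-- odd order -/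
def OddE (l : H) : Prop := ∃ m : ℕ, Odd m ∧ l ^ m = 1

theorem OddE.conj {l : H} (h : OddE l) (a : H) : OddE (a * l * a⁻¹) := by
  obtain ⟨m, hm, hl⟩ := h
  exact ⟨m, hm, by rw [conj_pow, hl]; group⟩

/-- `c` centralises `[V, l]` for every odd `l ∈ L` -/
def PP (L : Subgroup H) (V : AddSubgroup W) (c : H) : Prop := ∀ l ∈ L, OddE l → ∀ v ∈ V, n c (n l v) = 0

/-- `D` centralises `[V, l]` for every odd `l ∈ L` -/
def NN (L : Subgroup H) (V : AddSubgroup W) (D : Subgroup H) : Prop := ∀ d ∈ D, PP L V d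

/-- the minimal group and its generator -/
structure Mn (h : Dat X T O B R V lam) (L C : Subgroup H) (c₁ : H) : Prop where
  CY : C ≤ h.YY
  LI : ∀ l ∈ L, ∀ c ∈ C, l * c * l⁻¹ ∈ C
  c1 : c₁ ∈ C
  gen : ∀ U : Subgroup H, (∀ l ∈ L, ∀ b ∈ B, l * z c₁ b * l⁻¹ ∈ U) → C ≤ U
  nn : ¬ NN L V C

namespace Dat

theorem n_memV (h : Dat X T O B R V lam) {x : H} (hx : x ∈ X) {v : W} (hv : v ∈ V) : n x v ∈ V :=
  V.add_mem (h.XV x hx v hv) hv

theorem PP_one (h : Dat X T O B R V lam) : PP L V (1 : H) := fun _ _ _ _ _ => n_one h.two _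

theorem PP.mul (h : Dat X T O B R V lam) (hLX : L ≤ X) {a b : H} (hb : b ∈ h.YY) (pa : PP L V a)
    (pb : PP L V b) : PP L V (a * b) := fun l hl ho v hv => by
  rw [h.n_mul_V hb (h.n_memV (hLX hl) hv), pa l hl ho v hv, pb l hl ho v hv, add_zero]

theorem smul_n (x l : H) (v : W) : x⁻¹ • n l v = n (x⁻¹ * l * x) (x⁻¹ • v) := by
  have h1 := n_conj x⁻¹ l (x⁻¹ • v)
  rw [inv_inv, smul_inv_smul] at h1
  rw [h1]

theorem PP.conj (h : Dat X T O B R V lam) (hLX : L ≤ X) {x c : H} (hx : x ∈ L) (hc : c ∈ h.YY)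
    (pc : PP L V c) : PP L V (x * c * x⁻¹) := fun l hl ho v hv => by
  rw [h.n_conj_V (hLX hx) hc (h.n_memV (hLX hl) hv), smul_n]
  have ho' : OddE (x⁻¹ * l * x) := by simpa using ho.conj x⁻¹
  exact pc _ (L.mul_mem (L.mul_mem (L.inv_mem hx) hl) hx) ho' _ (h.XV _ (X.inv_mem (hLX hx)) v hv)

/-- the function `v ↦ n c (n l v)` is invariant under the odd element `l`: then it is 0 -/
theorem n_odd' (h : Dat X T O B R V lam) (hLX : L ≤ X) {c l : H} (hl : l ∈ L) (ho : OddE l)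
    (h1 : ∀ v ∈ V, n c (n l v) = n c (n l (l⁻¹ • v))) : ∀ v ∈ V, n c (n l v) = 0 := by
  have h2 : ∀ v ∈ V, n c (n l (l • v)) = n c (n l v) := by
    intro v hv
    have h3 := h1 (l • v) (h.XV _ (hLX hl) v hv)
    rwa [inv_smul_smul] at h3
  have h3 : ∀ k : ℕ, ∀ v ∈ V, n c (n l (l ^ k • v)) = n c (n l v) := by
    intro k
    induction k with
    | zero => intro v _; rw [pow_zero, one_smul]
    | succ k ih =>
      intro v hv
      rw [pow_succ', mul_smul, h2 _ (h.XV _ (X.pow_mem (hLX hl) k) v hv), ih v hv]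
  have h4 : ∀ k : ℕ, ∀ v ∈ V, n c (l ^ k • v) = n c v + k • n c (n l v) := by
    intro k
    induction k with
    | zero => intro v _; rw [pow_zero, one_smul, zero_smul, add_zero]
    | succ k ih =>
      intro v hv
      have h5 : l ^ (k + 1) • v = l ^ k • v + n l (l ^ k • v) := by
        rw [pow_succ', mul_smul, smul_eq h.two]
      rw [h5, n_add, h3 k v hv, ih v hv, add_smul, one_smul, add_assoc]
  obtain ⟨m, hm, hlm⟩ := ho
  intro v hv
  have h5 := h4 m v hv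
  rw [hlm, one_smul] at h5
  have h6 : m • n c (n l v) = 0 := (add_eq_left.1 h5.symm)
  obtain ⟨j, rfl⟩ := hm
  have h7 : (2 * j) • n c (n l v) = 0 := by
    rw [mul_comm, mul_smul, two_smul, h.two, smul_zero]
  rwa [add_smul, h7, zero_add, one_smul] at h6

/-- if `c (l c l⁻¹)` centralises `[V, l]`, `l` odd, then so does `c` -/
theorem n_odd (h : Dat X T O B R V lam) (hLX : L ≤ X) {c l : H} (hc : c ∈ h.YY) (hl : l ∈ L) (ho : OddE l)
    (hP : ∀ v ∈ V, n (c * (l * c * l⁻¹)) (n l v) = 0) : ∀ v ∈ V, n c (n l v) = 0 := by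
  refine h.n_odd' hLX hl ho fun v hv => ?_
  have h2 := hP v hv
  rw [h.n_mul_V (h.conj_YY (hLX hl) hc) (h.n_memV (hLX hl) hv),
    h.n_conj_V (hLX hl) hc (h.n_memV (hLX hl) hv), smul_n] at h2
  have h3 : l⁻¹ * l * l = l := by group
  rw [h3] at h2
  exact eq_of_add_eq_zero h.two h2

theorem exists_mn [Finite H] (h : Dat X T O B R V lam) (hL : LL X T B L) (hnn : ¬ NN L V h.YY) :
    ∃ C c₁, Mn h L C c₁ := by
  classical
  obtain ⟨C, ⟨hCY, hLI, hC⟩, hmin⟩ := WellFounded.has_min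
    (InvImage.wf (fun C : Subgroup H => Nat.card C) Nat.lt_wfRel.wf)
    {C : Subgroup H | C ≤ h.YY ∧ (∀ l ∈ L, ∀ c ∈ C, l * c * l⁻¹ ∈ C) ∧ ¬ NN L V C}
    ⟨h.YY, le_rfl, fun l hl c hc => h.conj_YY (hL.LX hl) hc, hnn⟩
  let Dc : H → Subgroup H := fun c => closure {y | ∃ l ∈ L, ∃ b ∈ B, y = l * z c b * l⁻¹}
  have hDC : ∀ c ∈ C, Dc c ≤ C := by
    intro c hc
    change Subgroup.closure _ ≤ C
    rw [closure_le]
    rintro _ ⟨l, hl, b, hb, rfl⟩
    exact hLI l hl _ (C.mul_mem hc (hLI b (hL.BL hb) c hc))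
  have hDn : ∀ c, ∀ d ∈ L, ∀ m ∈ Dc c, d * m * d⁻¹ ∈ Dc c := by
    intro c d hd m hm
    refine closure_induction (p := fun m _ => d * m * d⁻¹ ∈ Dc c) ?_ ?_ ?_ ?_ hm
    · rintro _ ⟨l, hl, b, hb, rfl⟩
      exact subset_closure ⟨d * l, L.mul_mem hd hl, b, hb, by group⟩
    · simp
    · intro a b _ _ ha hb
      have : d * (a * b) * d⁻¹ = (d * a * d⁻¹) * (d * b * d⁻¹) := by group
      rw [this]; exact (Dc c).mul_mem ha hb
    · intro a _ ha
      have : d * a⁻¹ * d⁻¹ = (d * a * d⁻¹)⁻¹ := by group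
      rw [this]; exact (Dc c).inv_mem ha
  by_cases hex : ∃ c ∈ C, Dc c = C
  · obtain ⟨c₁, hc₁, he⟩ := hex
    refine ⟨C, c₁, hCY, hLI, hc₁, fun U hU => ?_, hC⟩
    rw [← he]
    change Subgroup.closure _ ≤ U
    rw [closure_le]
    rintro _ ⟨l, hl, b, hb, rfl⟩
    exact hU l hl b hb
  push Not at hex
  exfalso
  have hD : ∀ c ∈ C, NN L V (Dc c) := by
    intro c hc
    by_contra hcon
    have h1 := hmin (Dc c) ⟨(hDC c hc).trans hCY, hDn c, hcon⟩
    exact hex c hc (eq_of_le_of_card_ge (hDC c hc) (not_lt.1 h1))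
  -- the elements `l` of `L` with `c (l c l⁻¹)` centralising `[V, odd]` for all `c ∈ C`
  have hcon : ∀ {l c : H}, l ∈ L → c ∈ C → l * c * l⁻¹ ∈ C := fun {l c} hl hc => hLI l hl c hc
  let U : Subgroup H :=
    { carrier := {l | l ∈ L ∧ ∀ c ∈ C, PP L V (c * (l * c * l⁻¹))}
      one_mem' := ⟨L.one_mem, fun c hc => by
        have : c * (1 * c * 1⁻¹) = 1 := by
          rw [one_mul, inv_one, mul_one]; exact h.sq_YY (hCY hc)
        rw [this]; exact h.PP_one⟩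
      mul_mem' := by
        rintro a b ⟨ha, ha'⟩ ⟨hb, hb'⟩
        refine ⟨L.mul_mem ha hb, fun c hc => ?_⟩
        have e : c * (a * b * c * (a * b)⁻¹) = (c * (a * c * a⁻¹)) * (a * (c * (b * c * b⁻¹)) * a⁻¹) := by
          have h1 : c * c = 1 := h.sq_YY (hCY hc)
          calc c * (a * b * c * (a * b)⁻¹) = c * a * 1 * b * c * b⁻¹ * a⁻¹ := by group
            _ = c * a * (c * c) * b * c * b⁻¹ * a⁻¹ := by rw [h1]
            _ = _ := by group
        have hm : c * (b * c * b⁻¹) ∈ h.YY := hCY (C.mul_mem hc (hcon hb hc))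
        rw [e]
        exact PP.mul h hL.LX (h.conj_YY (hL.LX ha) hm) (ha' c hc) (PP.conj h hL.LX ha hm (hb' c hc))
      inv_mem' := by
        rintro a ⟨ha, ha'⟩
        refine ⟨L.inv_mem ha, fun c hc => ?_⟩
        have h1 : c * (a * c * a⁻¹) = (a * c * a⁻¹) * c :=
          h.comm_YY (hCY hc) (hCY (hcon ha hc))
        have e : c * (a⁻¹ * c * a⁻¹⁻¹) = a⁻¹ * (c * (a * c * a⁻¹)) * a⁻¹⁻¹ := by
          rw [h1]; group
        have hm : c * (a * c * a⁻¹) ∈ h.YY := hCY (C.mul_mem hc (hcon ha hc))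
        rw [e]
        exact PP.conj h hL.LX (L.inv_mem ha) hm (ha' c hc) }
  have hLU : L ≤ U := by
    refine hL.gen U fun l hl b hb => ?_
    refine ⟨L.mul_mem (L.mul_mem hl (hL.BL hb)) (L.inv_mem hl), fun c hc => ?_⟩
    have hc' : l⁻¹ * c * l ∈ C := by simpa using hcon (L.inv_mem hl) hc
    refine hD _ hc' _ (subset_closure ⟨l, hl, b, hb, ?_⟩)
    rw [z]; group
  refine hC fun c hc l hl ho => ?_
  exact h.n_odd hL.LX (hCY hc) hl ho fun v hv => (hLU hl).2 c hc l hl ho v hv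

end Dat

namespace Mn

variable {h : Dat X T O B R V lam} {C : Subgroup H} {c₁ : H}

theorem c1Y (m : Mn h L C c₁) : c₁ ∈ h.YY := m.CY m.c1

theorem moved (m : Mn h L C c₁) : ∃ b ∈ B, b * c₁ * b⁻¹ ≠ c₁ := by
  by_contra hcon
  push Not at hcon
  have h1 : C ≤ ⊥ := m.gen ⊥ fun l hl b hb => by
    rw [(h.z_eq_one m.c1Y).2 (hcon b hb)]; simp
  apply m.nn
  intro d hd
  rw [mem_bot.1 (h1 hd)]
  exact h.PP_one

theorem z_memC (m : Mn h L C c₁) (hL : LL X T B L) {c b : H} (hc : c ∈ C) (hb : b ∈ B) : z c b ∈ C :=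
  C.mul_mem hc (m.LI b (hL.BL hb) c hc)

theorem Z_le_C (m : Mn h L C c₁) (hL : LL X T B L) {c : H} (hc : c ∈ C) : h.Z (m.CY hc) ≤ C := by
  intro y hy
  obtain ⟨b, hb, rfl⟩ := (h.mem_Z _).1 hy
  exact m.z_memC hL hc hb

/-- `cm C = {x : [x,c₁] ∈ cm B}` -/
theorem mem_cm (m : Mn h L C c₁) (hL : LL X T B L) {x : W} : x ∈ cm R C ↔ n c₁ x ∈ cm R B := by
  constructor
  · intro hx
    exact (h.mem_cm_Z m.c1Y).1 (cm_anti (m.Z_le_C hL m.c1) hx)
  · intro hx
    have hx' := (h.mem_cm_Z m.c1Y).2 hx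
    let U : Subgroup H :=
      { carrier := {u | u ∈ h.YY ∧ n u x ∈ R}
        one_mem' := ⟨h.YY.one_mem, by rw [n_one h.two]; exact R.zero_mem⟩
        mul_mem' := by
          rintro a b ⟨ha, ha'⟩ ⟨hb, hb'⟩
          refine ⟨h.YY.mul_mem ha hb, ?_⟩
          rw [n_mul h.two, h.nR a hb', add_zero]
          exact R.add_mem ha' hb'
        inv_mem' := by
          rintro a ⟨ha, ha'⟩
          refine ⟨h.YY.inv_mem ha, ?_⟩
          rw [n_inv h.two]; exact h.smulR _ ha' }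
    have hCU : C ≤ U := m.gen U fun l hl b hb => by
      have hz := h.z_mem m.c1Y hb
      refine ⟨h.conj_YY (hL.LX hl) hz, ?_⟩
      rw [n_conj, smul_eq h.two l⁻¹ x, n_add]
      refine h.smulR l (R.add_mem (hx' _ ((h.mem_Z m.c1Y).2 ⟨b, hb, rfl⟩)) ?_)
      exact hz.1 _ (h.nLV hL (L.inv_mem hl) x)
    intro c hc
    exact (hCU hc).2

theorem V_le_cm (m : Mn h L C c₁) : V ≤ cm R C := fun v hv c hc => (m.CY hc).1 v hv

theorem index_cm [Finite H] [Finite W] (m : Mn h L C c₁) (hL : LL X T B L) : (cm R C).index = Nat.card B := by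
  have h1 : cm R C = cm R (h.Z m.c1Y) := by
    ext x
    rw [m.mem_cm hL, h.mem_cm_Z]
  rw [h1]
  exact (h.one m.c1Y m.moved).2.2.1

/-- `z(c,B) = z(c₁,B)` for every `c ∈ C` moved by `B` -/
theorem Z_eq [Finite H] [Finite W] (m : Mn h L C c₁) (hL : LL X T B L) {c : H} (hc : c ∈ C)
    (hm : ∃ b ∈ B, b * c * b⁻¹ ≠ c) : h.Z (m.CY hc) = h.Z m.c1Y := by
  let E : Subgroup H := closure {y | ∃ c ∈ C, ∃ b ∈ B, y = z c b}
  have hEC : E ≤ C := by
    rw [closure_le]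
    rintro _ ⟨c, hc, b, hb, rfl⟩
    exact m.z_memC hL hc hb
  have hEO : E ≤ O := by
    rw [closure_le]
    rintro _ ⟨c, hc, b, hb, rfl⟩
    exact h.z_memO (m.CY hc) hb
  have h1 : Nat.card E ≤ (cm R E).index := h.no E hEO fun e he => h.sq_YY (m.CY (hEC he))
  have h2 : (cm R E).index ≤ (cm R C).index :=
    Nat.le_of_dvd (Nat.pos_of_ne_zero AddSubgroup.index_ne_zero_of_finite)
      (AddSubgroup.index_dvd_of_le (cm_anti hEC))
  have h3 : Nat.card E ≤ Nat.card B := h1.trans (h2.trans (m.index_cm hL).le)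
  have key : ∀ (c : H) (hc : c ∈ C), (∃ b ∈ B, b * c * b⁻¹ ≠ c) → h.Z (m.CY hc) = E := by
    intro c hc hm
    refine eq_of_le_of_card_ge ?_ ?_
    · intro y hy
      obtain ⟨b, hb, rfl⟩ := (h.mem_Z _).1 hy
      exact subset_closure ⟨c, hc, b, hb, rfl⟩
    · rw [(h.one (m.CY hc) hm).2.1]; exact h3
  rw [key c hc hm, key c₁ m.c1 m.moved]

theorem z_memZ [Finite H] [Finite W] (m : Mn h L C c₁) (hL : LL X T B L) {c b : H} (hc : c ∈ C) (hb : b ∈ B) :
    z c b ∈ h.Z m.c1Y := by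
  by_cases hm : ∃ b ∈ B, b * c * b⁻¹ ≠ c
  · rw [← m.Z_eq hL hc hm]
    exact (h.mem_Z _).2 ⟨b, hb, rfl⟩
  · push Not at hm
    rw [(h.z_eq_one (m.CY hc)).2 (hm b hb)]
    exact (h.Z m.c1Y).one_mem

/-- an `L`-invariant subgroup of `C` is `C` or centralised by `L` -/
theorem dich [Finite H] [Finite W] (m : Mn h L C c₁) (hL : LL X T B L) {D : Subgroup H} (hDC : D ≤ C)
    (hDn : ∀ l ∈ L, ∀ d ∈ D, l * d * l⁻¹ ∈ D) : C ≤ D ∨ ∀ l ∈ L, ∀ d ∈ D, l * d * l⁻¹ = d := by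
  by_cases hm : ∃ d ∈ D, ∃ b ∈ B, b * d * b⁻¹ ≠ d
  · left
    obtain ⟨d, hd, hm'⟩ := hm
    refine m.gen D fun l hl b hb => ?_
    have h1 : z c₁ b ∈ h.Z (m.CY (hDC hd)) := by
      rw [m.Z_eq hL (hDC hd) hm']
      exact (h.mem_Z _).2 ⟨b, hb, rfl⟩
    obtain ⟨b', hb', h2⟩ := (h.mem_Z _).1 h1
    rw [← h2]
    exact hDn l hl _ (D.mul_mem hd (hDn b' (hL.BL hb') d hd))
  · right
    push Not at hm
    have h1 : L ≤ centralizer (D : Set H) := hL.gen _ fun l hl b hb => by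
      rw [mem_centralizer_iff]
      intro d hd
      have h2 : l⁻¹ * d * l ∈ D := by simpa using hDn _ (L.inv_mem hl) d hd
      have h3 := hm _ h2 b hb
      have h4 : b * (l⁻¹ * d * l) = (l⁻¹ * d * l) * b := mul_inv_eq_iff_eq_mul.1 h3
      calc d * (l * b * l⁻¹) = l * ((l⁻¹ * d * l) * b) * l⁻¹ := by group
        _ = l * (b * (l⁻¹ * d * l)) * l⁻¹ := by rw [h4]
        _ = l * b * l⁻¹ * d := by group
    intro l hl d hd
    rw [← (mem_centralizer_iff.1 (h1 hl)) d hd]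
    group

end Mn

end Cfsg.Agent.Omega.FOne.ThmR
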