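import Cfsg.Agent.Omega.FOne.ThmR.Base

/-!
# THEOREM A, step (1)

`u ∈ YY` does not centralise `B`: then `C_B(u) = 1`, `|z(u,B)| = |B| = |W : cm z(u,B)|`, `W = [W,u] + cm B`.
-/

set_option autoImplicit false
set_option linter.unusedSectionVars false

namespace Cfsg.Agent.Omega.FOne.ThmR

open Subgroup

variable {H W : Type*} [Group H] [AddCommGroup W] [DistribMulAction H W] {X T O B : Subgroup H}
  {R V : AddSubgroup W} {lam : W}

/-- `C_B(u)` -/
def CB (B : Subgroup H) (u : H) : Subgroup H := B ⊓ centralizer {u}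

theorem mem_CB {B : Subgroup H} {u b : H} : b ∈ CB B u ↔ b ∈ B ∧ b * u * b⁻¹ = u := by
  rw [CB, mem_inf, mem_centralizer_singleton_iff, mul_inv_eq_iff_eq_mul]

namespace Dat

theorem mem_cm_Z (h : Dat X T O B R V lam) {u : H} (hu : u ∈ h.YY) {x : W} :
    x ∈ cm R (h.Z hu) ↔ n u x ∈ cm R B := by
  constructor
  · intro hx b hb
    have h1 := hx _ ((h.mem_Z hu).2 ⟨b, hb, rfl⟩)
    have h2 := R.add_mem h1 (h.n_z hu hb x)
    rwa [← add_assoc, h.two, zero_add] at h2
  · intro hx e he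
    obtain ⟨b, hb, rfl⟩ := (h.mem_Z hu).1 he
    have h2 := R.add_mem (h.n_z hu hb x) (hx b hb)
    rwa [add_assoc, h.two, add_zero] at h2

theorem cm_Z (h : Dat X T O B R V lam) {u : H} (hu : u ∈ h.YY) :
    cm R (h.Z hu) = (cm R B).comap (nHom u) := by
  ext x
  rw [h.mem_cm_Z hu, AddSubgroup.mem_comap, nHom_apply]

theorem Z_le_YY (h : Dat X T O B R V lam) {u : H} (hu : u ∈ h.YY) : h.Z hu ≤ h.YY := by
  intro y hy
  obtain ⟨b, hb, rfl⟩ := (h.mem_Z hu).1 hy
  exact h.z_mem hu hb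

theorem Z_le_O (h : Dat X T O B R V lam) {u : H} (hu : u ∈ h.YY) : h.Z hu ≤ O := by
  intro y hy
  obtain ⟨b, hb, rfl⟩ := (h.mem_Z hu).1 hy
  exact h.z_memO hu hb

theorem card_Z_mul (h : Dat X T O B R V lam) {u : H} (hu : u ∈ h.YY) :
    Nat.card (h.Z hu) * Nat.card (CB B u) = Nat.card B := by
  have h1 : Nat.card (CB B u) = Nat.card (h.zHom hu).ker := by
    have e : CB B u = (h.zHom hu).ker.map B.subtype := by
      ext b
      rw [mem_CB]
      constructor
      · rintro ⟨hb, hbu⟩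
        exact ⟨⟨b, hb⟩, (h.z_eq_one hu).2 hbu, rfl⟩
      · rintro ⟨⟨b, hb⟩, hbu, rfl⟩
        exact ⟨hb, (h.z_eq_one hu).1 hbu⟩
    rw [e]
    exact (Nat.card_congr ((h.zHom hu).ker.equivMapOfInjective B.subtype B.subtype_injective).toEquiv).symm
  have h2 : (h.zHom hu).ker.index = Nat.card (h.Z hu) := index_ker _
  rw [h1, ← h2, mul_comm]
  exact card_mul_index _

/-- Step (1). -/
theorem one [Finite H] [Finite W] (h : Dat X T O B R V lam) {u : H} (hu : u ∈ h.YY)
    (hne : ∃ b ∈ B, b * u * b⁻¹ ≠ u) :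
    (∀ b ∈ B, b * u * b⁻¹ = u → b = 1) ∧ Nat.card (h.Z hu) = Nat.card B ∧
      (cm R (h.Z hu)).index = Nat.card B ∧ ∀ w, ∃ x, ∃ m ∈ cm R B, n u x + m = w := by
  set K := cm R B with hK
  set S := (nHom (W := W) u).range with hS
  set C := cm R (CB B u) with hC
  have hSC : S ≤ C := by
    rintro _ ⟨x, rfl⟩ b hb
    have hb' := mem_CB.1 hb
    have h1 := h.n_z hu hb'.1 x
    rw [(h.z_eq_one hu).2 hb'.2, n_one h.two, zero_add] at h1
    exact h1
  have hKC : K ≤ C := cm_anti inf_le_left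
  have e1 : (cm R (h.Z hu)).index = K.relIndex S := by
    rw [h.cm_Z hu, AddSubgroup.index_comap]
  have e2 : K.relIndex S * (S ⊔ K).index = K.index := by
    have h1 : K.relIndex (S ⊔ K) = K.relIndex S := AddSubgroup.relIndex_sup_right _ _
    rw [← h1]
    exact AddSubgroup.relIndex_mul_index le_sup_right
  have e3 : C.index ≤ (S ⊔ K).index :=
    Nat.le_of_dvd (Nat.pos_of_ne_zero AddSubgroup.index_ne_zero_of_finite)
      (AddSubgroup.index_dvd_of_le (sup_le hSC hKC))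
  have e4 : Nat.card (h.Z hu) ≤ K.relIndex S := by
    rw [← e1]
    exact h.no _ (h.Z_le_O hu) fun e he => h.sq_YY (h.Z_le_YY hu he)
  have e5 : Nat.card (CB B u) ≤ C.index :=
    h.no _ (inf_le_left.trans h.BO) fun e he => h.sqB e (mem_CB.1 he).1
  have e6 := h.card_Z_mul hu
  have hex := h.ex
  have p1 : 0 < Nat.card (h.Z hu) := Nat.card_pos
  have p2 : 0 < Nat.card (CB B u) := Nat.card_pos
  have e7 : Nat.card (h.Z hu) * Nat.card (CB B u) = K.relIndex S * (S ⊔ K).index := by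
    rw [e6, e2, hex]
  have e8 : (S ⊔ K).index = Nat.card (CB B u) := by
    by_contra hcon
    have h1 : Nat.card (CB B u) < (S ⊔ K).index := lt_of_le_of_ne (e5.trans e3) (Ne.symm hcon)
    have h2 : Nat.card (h.Z hu) * Nat.card (CB B u) < K.relIndex S * (S ⊔ K).index := by
      calc Nat.card (h.Z hu) * Nat.card (CB B u) < Nat.card (h.Z hu) * (S ⊔ K).index := by
            exact Nat.mul_lt_mul_of_pos_left h1 p1
        _ ≤ _ := Nat.mul_le_mul_right _ e4
    exact absurd e7 h2.ne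
  have e9 : K.relIndex S = Nat.card (h.Z hu) := by
    rw [e8] at e7
    exact (Nat.eq_of_mul_eq_mul_right p2 e7).symm
  have e10 : Nat.card (CB B u) = C.index := le_antisymm e5 (e3.trans e8.le)
  -- `C_B(u) = 1`
  have hbot : CB B u = ⊥ := by
    by_contra hcon
    have h1 := h.min _ inf_le_left hcon e10
    obtain ⟨b, hb, hbu⟩ := hne
    rw [← h1] at hb
    exact hbu (mem_CB.1 hb).2
  have hc1 : Nat.card (CB B u) = 1 := by rw [hbot]; exact card_bot
  have hcZ : Nat.card (h.Z hu) = Nat.card B := by rw [← e6, hc1, mul_one]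
  refine ⟨fun b hb hbu => ?_, hcZ, by rw [e1, e9, hcZ], fun w => ?_⟩
  · have h1 : b ∈ CB B u := mem_CB.2 ⟨hb, hbu⟩
    rw [hbot] at h1
    exact mem_bot.1 h1
  · have h1 : S ⊔ K = ⊤ := by rw [← AddSubgroup.index_eq_one, e8, hc1]
    have h2 : w ∈ S ⊔ K := h1 ▸ AddSubgroup.mem_top w
    rw [AddSubgroup.mem_sup] at h2
    obtain ⟨_, ⟨x, rfl⟩, m, hm, h3⟩ := h2
    exact ⟨x, m, hm, h3⟩

end Dat

end Cfsg.Agent.Omega.FOne.ThmR
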