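import Cfsg.Agent.Omega.FOne.ThmR.PlugA
import Cfsg.Agent.Omega.FOne.ThmA.ToFs

/-!
# (F1'): `ToFs`, `AtomTwo`, `PTv`, `FOneP` from (ML) and `EndPieces`
-/

set_option autoImplicit false

namespace Cfsg.Agent.Omega.FOne.ThmR

open Subgroup Cfsg
open Cfsg.Agent.Omega.ML.Ex (EndPieces)

universe u

/-- **`ToFs`** from (ML) -/
theorem toFs (hML : ML.Final.MLK.{u, u}) : Glue.ToFs.{u} := ThmA.toFs_of hML (thA hML)

/-- **`AtomTwo`** from (ML) and the last pieces -/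
theorem atomTwo (hML : ML.Final.MLK.{u, u}) (E : EndPieces.{u, u, u}) : NOv.AtomTwo.{u} :=
  Glue.atomTwo_of (toFs hML) (Glue.deadR_of E) hML

/-- **`PTv`** from (ML) and the last pieces -/
theorem ptv (hML : ML.Final.MLK.{u, u}) (E : EndPieces.{u, u, u}) : NOv.PTv.{u} :=
  Glue.ptv_of (toFs hML) (Glue.deadR_of E) hML

/-- **(F1)** from (ML) and the last pieces -/
theorem fOneP (hML : ML.Final.MLK.{u, u}) (E : EndPieces.{u, u, u}) (K : Frame.Cls.{u}) : NO3S.TwoOne.FOneP K :=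
  Glue.fOneP_of (toFs hML) (Glue.deadR_of E) hML K

end Cfsg.Agent.Omega.FOne.ThmR
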